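import Groth.Agent.Boot.Helpers
import Groth.Agent.ASp.Glue
/-!
An etale atlas from a smooth one, by slicing.
-/

set_option autoImplicit false
set_option backward.isDefEq.respectTransparency false
set_option backward.isDefEq.respectTransparency.types false

universe u

open CategoryTheory CategoryTheory.Limits AlgebraicGeometry Opposite

namespace Groth.Agent.Boot

open _root_.AlgSp Groth.Agent.ASp

variable {S : Scheme.{u}}

/-- The hypothesis: a smooth surjective map from a scheme, representable by algebraic spaces. -/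
def IsSmoothChart {F : Sp S} {U : Over S} (p : (yon S).obj U ⟶ F) : Prop :=
  ∀ ⦃T : Over S⦄ (g : (yon S).obj T ⟶ F) ⦃P : Sp S⦄ (fst : P ⟶ (yon S).obj U) (snd : P ⟶ (yon S).obj T),
    IsPullback fst snd p g → IsAlgSpace P ∧ LocP @Smooth snd ∧ Function.Surjective (Points.map snd)

/-- The index of a slice: a chart, coordinates on it and a tuple of roots of unity. -/
structure CIdx (U : Over S) : Type u where
  W : U.left.Opens
  hW : IsAffineOpen W
  d : ℕ
  a : W.toScheme ⟶ AS d S
  ha : a ≫ AS d S ↘ S = W.ι ≫ U.hom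
  m : ℕ
  e : Fin d → ℕ

theorem exists_etale_atlas {F R : Sp S} {U R' : Over S} {p : (yon S).obj U ⟶ F} (hp : IsSmoothChart p)
    {fR sR : R ⟶ (yon S).obj U} (sqR : IsPullback fR sR p p) (c : (yon S).obj R' ⟶ R)
    (hce : RepWith @Etale c) (hcs : RepWith @Surjective c)
    (s t : R' ⟶ U) (hs : (yon S).map s = c ≫ fR) (ht : (yon S).map t = c ≫ sR) :
    ∃ (Z₀ : Over S) (q : Z₀ ⟶ U), IsSeparated Z₀.hom ∧
      Etale ((pullback.snd q s) ≫ t).left ∧ Function.Surjective (Points.map ((yon S).map q ≫ p)) := by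
  obtain ⟨hRa, hsR, -⟩ := hp p fR sR sqR
  obtain ⟨-, hfR, -⟩ := hp p sR fR sqR.flip
  haveI : Smooth s.left := hfR c (𝟙 _) s hce (repWith_id _ U) (by rw [hs, Category.comp_id])
  haveI : Smooth t.left := hsR c (𝟙 _) t hce (repWith_id _ U) (by rw [ht, Category.comp_id])
  have hst : s.left ≫ U.hom = t.left ≫ U.hom := by rw [Over.w, Over.w]
  -- `(s, t)` is formally unramified
  have hu : ∀ (Z' Z : Scheme.{u}) (i : Z' ⟶ Z), IsClosedImmersion i → IsNilpotent i.ker →
      ∀ g₁ g₂ : Z ⟶ R'.left, i ≫ g₁ = i ≫ g₂ → g₁ ≫ s.left = g₂ ≫ s.left → g₁ ≫ t.left = g₂ ≫ t.left →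
        g₁ = g₂ := by
    intro Z' Z i hi hnil g₁ g₂ hig hgs hgt
    let ZS : Over S := Over.mk (g₁ ≫ R'.hom)
    let Z'S : Over S := Over.mk (i ≫ g₁ ≫ R'.hom)
    let iS : Z'S ⟶ ZS := Over.homMk i rfl
    let G₁ : ZS ⟶ R' := Over.homMk g₁ rfl
    let G₂ : ZS ⟶ R' := Over.homMk g₂ (by
      change g₂ ≫ R'.hom = g₁ ≫ R'.hom
      rw [← Over.w s, reassoc_of% hgs])
    have hc12 : (yon S).map G₁ ≫ c = (yon S).map G₂ ≫ c := by
      refine sqR.hom_ext ?_ ?_
      · rw [Category.assoc, Category.assoc, ← hs, ← Functor.map_comp, ← Functor.map_comp]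
        exact congrArg (yon S).map (Over.OverMorphism.ext hgs)
      · rw [Category.assoc, Category.assoc, ← ht, ← Functor.map_comp, ← Functor.map_comp]
        exact congrArg (yon S).map (Over.OverMorphism.ext hgt)
    obtain ⟨K, k₁, k₂, hK⟩ := exists_isPullback_yon hce.1 c
    haveI : Etale k₁.left := hce.2 _ _ _ hK.flip
    obtain ⟨h, hh⟩ := (yon S).map_surjective (hK.lift _ _ hc12)
    obtain ⟨h', hh'⟩ := (yon S).map_surjective (hK.lift ((yon S).map G₁) ((yon S).map G₁) rfl)
    have e1 : h ≫ k₁ = G₁ := (yon S).map_injective (by rw [Functor.map_comp, hh, hK.lift_fst])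
    have e2 : h ≫ k₂ = G₂ := (yon S).map_injective (by rw [Functor.map_comp, hh, hK.lift_snd])
    have e1' : h' ≫ k₁ = G₁ := (yon S).map_injective (by rw [Functor.map_comp, hh', hK.lift_fst])
    have e2' : h' ≫ k₂ = G₁ := (yon S).map_injective (by rw [Functor.map_comp, hh', hK.lift_snd])
    have hiG : iS ≫ G₂ = iS ≫ G₁ := Over.OverMorphism.ext hig.symm
    have hih : iS ≫ h = iS ≫ h' := (yon S).map_injective (hK.hom_ext
      (by rw [← Functor.map_comp, ← Functor.map_comp, Category.assoc, e1, Category.assoc, e1'])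
      (by rw [← Functor.map_comp, ← Functor.map_comp, Category.assoc, e2, Category.assoc, e2', hiG]))
    have heq : h.left = h'.left := FormallyUnramified.hom_ext i hnil k₁.left
      (congrArg (fun m => m.left) hih) (by rw [← Over.comp_left, ← Over.comp_left, e1, e1'])
    have := congrArg (· ≫ k₂.left) heq
    change (h ≫ k₂).left = (h' ≫ k₂).left at this
    rw [e2, e2'] at this
    exact this.symm
  -- the good open sets
  let φ : ∀ i : CIdx U, (s.left ⁻¹ᵁ i.W).toScheme ⟶ pullback U.hom (AS i.d S ↘ S) := fun i =>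
    pullback.lift ((s.left ⁻¹ᵁ i.W).ι ≫ t.left) ((s.left ∣_ i.W) ≫ i.a)
      (by rw [Category.assoc, Category.assoc, i.ha, morphismRestrict_ι_assoc, hst])
  haveI hsm : ∀ W : U.left.Opens, Smooth (s.left ∣_ W) := fun W => IsZariskiLocalAtTarget.restrict ‹_› W
  let G : ∀ i : CIdx U, i.W.toScheme.Opens := fun i =>
    ⟨(s.left ∣_ i.W) '' {x | EtAt (φ i) x}, (s.left ∣_ i.W).isOpenMap _ (isOpen_setOf_etAt _)⟩
  have hG : ∀ (i : CIdx U) x, (s.left ∣_ i.W) x ∈ G i → EtAt (φ i) x := fun i x ⟨y, hy, hyx⟩ =>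
    etAt_saturated p sqR c hce s t hs ht i.W i.a i.ha y x hyx (φ i) (pullback.lift_fst _ _ _)
      (pullback.lift_snd _ _ _) hy
  have hφG : ∀ i : CIdx U, Etale (((s.left ∣_ i.W) ⁻¹ᵁ G i).ι ≫ φ i) := fun i =>
    etale_of_forall_etAt _ fun x => (etAt_comp_iff _ _ _).2 (hG i _ x.2)
  -- the slices
  choose S' π σ hπe hπa hσ hpt using fun i : CIdx U => exists_unity_etale S i.m i.e
  let V : CIdx U → Scheme.{u} := fun i => pullback ((G i).ι ≫ i.a) (σ i)
  let qi : ∀ i, V i ⟶ U.left := fun i => pullback.fst _ _ ≫ (G i).ι ≫ i.W.ι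
  let Z₀ : Over S := Over.mk (Limits.Sigma.desc fun i => qi i ≫ U.hom)
  let q : Z₀ ⟶ U := Over.homMk (Limits.Sigma.desc qi) (Sigma.hom_ext _ _ fun i => by
    change Sigma.ι V i ≫ Limits.Sigma.desc qi ≫ U.hom = Sigma.ι V i ≫ Limits.Sigma.desc _
    rw [Sigma.ι_desc_assoc, Sigma.ι_desc])
  haveI : ∀ i, (V i).IsSeparated := fun i => by
    haveI : IsAffine i.W.toScheme := i.hW
    haveI : IsAffineHom (π i) := hπa i
    haveI : IsSeparated (σ i) := by
      haveI : IsSeparated (σ i ≫ AS i.d S ↘ S) := by rw [hσ]; infer_instance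
      exact IsSeparated.of_comp (σ i) (AS i.d S ↘ S)
    haveI : IsSeparated (pullback.fst ((G i).ι ≫ i.a) (σ i) ≫ (G i).ι ≫ terminal.from i.W.toScheme) :=
      inferInstance
    constructor
    convert this using 1
    exact Subsingleton.elim _ _
  haveI : (∐ V).IsSeparated := isSeparated_sigma V
  have hZsep : IsSeparated Z₀.hom := by
    haveI : IsSeparated (Z₀.hom ≫ terminal.from S) := by
      rw [show Z₀.hom ≫ terminal.from S = terminal.from (∐ V) from Subsingleton.elim _ _]
      exact (‹(∐ V).IsSeparated›).isSeparated_terminal_from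
    exact IsSeparated.of_comp Z₀.hom (terminal.from S)
  refine ⟨Z₀, q, hZsep, ?_, ?_⟩
  · -- etaleness on the chart
    let C₀ : Over S := pullback q s
    have hsq : IsPullback (pullback.fst q s).left (pullback.snd q s).left (Limits.Sigma.desc qi) s.left :=
      isPullback_left (IsPullback.of_hasPullback q s)
    change Etale ((pullback.snd q s).left ≫ t.left)
    rw [IsZariskiLocalAtSource.iff_of_openCover (P := @Etale) ((sigmaOpenCover V).pullback₁ (pullback.fst q s).left)]
    intro (i : CIdx U)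
    let X := pullback (pullback.fst q s).left (Sigma.ι V i)
    let x₁ : X ⟶ V i := pullback.snd _ _
    let x₂ : X ⟶ R'.left := pullback.fst (pullback.fst q s).left (Sigma.ι V i) ≫ (pullback.snd q s).left
    have sqX : IsPullback x₂ x₁ s.left (qi i) := by
      have := ((IsPullback.of_hasPullback (pullback.fst q s).left (Sigma.ι V i)).paste_horiz hsq.flip)
      rw [Sigma.ι_desc] at this
      exact this
    change Etale (pullback.fst (pullback.fst q s).left (Sigma.ι V i) ≫ (pullback.snd q s).left ≫ t.left)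
    rw [← Category.assoc]
    let O := (s.left ∣_ i.W) ⁻¹ᵁ G i
    let sG := (s.left ∣_ i.W) ∣_ G i
    have sqO : IsPullback (O.ι ≫ (s.left ⁻¹ᵁ i.W).ι) sG s.left ((G i).ι ≫ i.W.ι) :=
      (isPullback_morphismRestrict (s.left ∣_ i.W) (G i)).flip.paste_horiz
        (isPullback_morphismRestrict s.left i.W).flip
    obtain ⟨y, hy₂, hy₁⟩ : ∃ y : X ⟶ O.toScheme, y ≫ O.ι ≫ (s.left ⁻¹ᵁ i.W).ι = x₂ ∧
        y ≫ sG = x₁ ≫ pullback.fst _ _ :=
      ⟨sqO.lift x₂ (x₁ ≫ pullback.fst _ _) (by rw [sqX.w, Category.assoc]), sqO.lift_fst _ _ _,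
        sqO.lift_snd _ _ _⟩
    have sqy : IsPullback y x₁ sG (pullback.fst _ _) := by
      refine IsPullback.of_right ?_ hy₁ sqO
      rw [hy₂]
      exact sqX
    let φG := O.ι ≫ φ i
    haveI : Etale φG := hφG i
    let m : pullback U.hom (π i) ⟶ pullback U.hom (AS i.d S ↘ S) :=
      pullback.map _ _ _ _ (𝟙 _) (σ i) (𝟙 S) (by simp) (by simp [hσ])
    have sqm : IsPullback (pullback.snd U.hom (π i)) m (σ i) (pullback.snd U.hom (AS i.d S ↘ S)) := by
      refine IsPullback.of_bot (h₃₁ := U.hom) (v₂₁ := pullback.fst U.hom (AS i.d S ↘ S))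
        (v₂₂ := AS i.d S ↘ S) ?_ (by simp [m, pullback.map]) (IsPullback.of_hasPullback U.hom (AS i.d S ↘ S)).flip
      rw [show m ≫ pullback.fst U.hom (AS i.d S ↘ S) = pullback.fst _ _ by simp [m, pullback.map], hσ]
      exact (IsPullback.of_hasPullback U.hom (π i)).flip
    let χ : X ⟶ pullback U.hom (π i) := pullback.lift (x₂ ≫ t.left) (x₁ ≫ pullback.snd _ _) (by
      have key := sqX.w =≫ U.hom
      simp only [qi, x₂, Category.assoc] at key
      rw [Category.assoc, Category.assoc, ← hst, key, ← hσ i]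
      have e := pullback.condition (f := (G i).ι ≫ i.a) (g := σ i) =≫ (AS i.d S ↘ S)
      simp only [Category.assoc, i.ha] at e ⊢
      exact congrArg (x₁ ≫ ·) e)
    have hsA : φG ≫ pullback.snd U.hom (AS i.d S ↘ S) = sG ≫ (G i).ι ≫ i.a := by
      simp only [φG, φ, Category.assoc, pullback.lift_snd, sG, O]
      rw [morphismRestrict_ι_assoc]
    have sqχ : IsPullback χ y m φG := by
      refine IsPullback.of_right ?_ ?_ sqm
      · rw [show χ ≫ pullback.snd U.hom (π i) = x₁ ≫ pullback.snd _ _ from pullback.lift_snd _ _ _, hsA]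
        exact sqy.flip.paste_horiz (IsPullback.of_hasPullback _ _).flip
      · apply pullback.hom_ext
        · simp only [Category.assoc, φG, φ, m, pullback.map, pullback.lift_fst, χ, Category.comp_id]
          rw [← hy₂]
          simp only [Category.assoc]
        · simp only [Category.assoc, hsA, reassoc_of% hy₁, m, pullback.map, pullback.lift_snd, χ,
            pullback.lift_snd_assoc]
          rw [← pullback.condition]
    haveI : Etale χ := MorphismProperty.of_isPullback (P := @Etale) sqχ.flip ‹Etale φG›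
    rw [show (pullback.fst (pullback.fst q s).left (Sigma.ι V i) ≫ (pullback.snd q s).left) ≫ t.left =
      χ ≫ pullback.fst U.hom (π i) from (pullback.lift_fst _ _ _).symm]
    haveI := hπe i
    infer_instance
  · -- surjectivity
    intro x
    obtain ⟨K, _, _, str, g, hg⟩ := exists_geometric x
    let KS : Over S := Over.mk str
    let pt : ↥KS.left := IsLocalRing.closedPoint K
    obtain ⟨P, fP, sP, sqP⟩ : ∃ (P : Sp S) (fP : P ⟶ (yon S).obj U) (sP : P ⟶ (yon S).obj KS),
        IsPullback fP sP p g := ⟨_, _, _, IsPullback.of_hasPullback _ _⟩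
    obtain ⟨hPa, hsP, hsPs⟩ := hp g fP sP sqP
    obtain ⟨CP, cP, hcPe, hcPs⟩ := hPa.atlas
    obtain ⟨bP, hbP⟩ := (yon S).map_surjective (cP ≫ sP)
    haveI : Smooth bP.left := hsP cP (𝟙 _) bP hcPe (repWith_id _ KS) (by rw [hbP, Category.comp_id])
    haveI : Nonempty ↥CP.left := by
      obtain ⟨y, -⟩ := hsPs (Points.schemeHomeo KS pt)
      obtain ⟨w, -⟩ := surjective_ofPt hcPs y
      exact ⟨w⟩
    obtain ⟨v₀, hv₀⟩ := exists_section_of_nonempty (K := K) bP.left
    let v : KS ⟶ CP := Over.homMk v₀ (by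
      change v₀ ≫ CP.hom = str
      rw [← Over.w bP, reassoc_of% hv₀]; rfl)
    obtain ⟨u, hu'⟩ := (yon S).map_surjective ((yon S).map v ≫ cP ≫ fP)
    have hup : (yon S).map u ≫ p = g := by
      rw [hu', Category.assoc, Category.assoc, sqP.w, ← reassoc_of% hbP, ← Functor.map_comp_assoc,
        show v ≫ bP = 𝟙 _ from Over.OverMorphism.ext hv₀, CategoryTheory.Functor.map_id, Category.id_comp]
    obtain ⟨D, d₁, d₂, hD⟩ := exists_isPullback_yon hce.1 (sqR.lift ((yon S).map u) ((yon S).map u) rfl)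
    haveI : Etale d₂.left := hce.2 _ _ _ hD
    haveI : Surjective d₂.left := hcs.2 _ _ _ hD
    haveI : Nonempty ↥D.left := ⟨(d₂.left.surjective pt).choose⟩
    obtain ⟨w₀, hw₀⟩ := exists_section_of_nonempty (K := K) d₂.left
    let k₀ : KS ⟶ R' := (Over.homMk w₀ (by
      change w₀ ≫ D.hom = str
      rw [← Over.w d₂, reassoc_of% hw₀]; rfl) : KS ⟶ D) ≫ d₁
    have hk₀c : (yon S).map k₀ ≫ c = sqR.lift ((yon S).map u) ((yon S).map u) rfl := by
      rw [Functor.map_comp, Category.assoc, hD.w, ← Functor.map_comp_assoc,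
        show _ ≫ d₂ = 𝟙 KS from Over.OverMorphism.ext hw₀, CategoryTheory.Functor.map_id, Category.id_comp]
    have hk₀s : k₀ ≫ s = u := (yon S).map_injective (by
      rw [Functor.map_comp, hs, reassoc_of% hk₀c, sqR.lift_fst])
    have hk₀t : k₀ ≫ t = u := (yon S).map_injective (by
      rw [Functor.map_comp, ht, reassoc_of% hk₀c, sqR.lift_snd])
    obtain ⟨W, hWa, d, a, ha, hr, het⟩ := exists_coords U.hom s.left t.left hst hu (k₀.left pt)
    let i₀ : CIdx U := ⟨W, hWa, d, a, ha, 0, 0⟩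
    have hmem : (s.left ∣_ W) ⟨k₀.left pt, hr⟩ ∈ G i₀ := ⟨_, het, rfl⟩
    let O := (s.left ∣_ W) ⁻¹ᵁ G i₀
    let φG := O.ι ≫ φ i₀
    haveI : Etale φG := hφG i₀
    let ι₀ := O.ι ≫ (s.left ⁻¹ᵁ W).ι
    let Ck := pullback (ι₀ ≫ t.left) u.left
    let hK : AS d KS.left ⟶ pullback U.hom (AS d S ↘ S) :=
      pullback.lift (AS d KS.left ↘ KS.left ≫ u.left) (AffineSpace.map _ str)
        (by rw [Category.assoc, Over.w, AffineSpace.map_over]; rfl)
    have sqK : IsPullback hK (AS d KS.left ↘ KS.left) (pullback.fst U.hom (AS d S ↘ S)) u.left := by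
      refine IsPullback.of_right ?_ (pullback.lift_fst _ _ _) (IsPullback.of_hasPullback U.hom (AS d S ↘ S)).flip
      rw [show hK ≫ pullback.snd U.hom (AS d S ↘ S) = AffineSpace.map _ str from pullback.lift_snd _ _ _, Over.w]
      exact AffineSpace.isPullback_map str
    have hφfst : φG ≫ pullback.fst U.hom (AS d S ↘ S) = ι₀ ≫ t.left := by
      simp only [φG, φ, ι₀, Category.assoc]
      exact congrArg (O.ι ≫ ·) (pullback.lift_fst _ _ _)
    obtain ⟨ψ, hψh, hψs⟩ : ∃ ψ : Ck ⟶ AS d KS.left, ψ ≫ hK = pullback.fst _ _ ≫ φG ∧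
        ψ ≫ AS d KS.left ↘ KS.left = pullback.snd _ _ :=
      ⟨sqK.lift (pullback.fst _ _ ≫ φG) (pullback.snd _ _) (by rw [Category.assoc, hφfst, pullback.condition]),
        sqK.lift_fst _ _ _, sqK.lift_snd _ _ _⟩
    haveI : Etale ψ := by
      refine MorphismProperty.of_isPullback (P := @Etale) (f' := pullback.fst (ι₀ ≫ t.left) u.left) (f := hK) ?_ ‹Etale φG›
      refine IsPullback.of_bot (h₃₁ := u.left) (v₂₁ := AS d KS.left ↘ KS.left)
        (v₂₂ := pullback.fst U.hom (AS d S ↘ S)) ?_ hψh.symm sqK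
      rw [hψs, hφfst]
      exact IsPullback.of_hasPullback _ _
    haveI : Nonempty ↥Ck := by
      obtain ⟨z, -, -⟩ := Scheme.Pullback.exists_preimage_pullback (f := ι₀ ≫ t.left) (g := u.left)
        (⟨⟨k₀.left pt, hr⟩, hmem⟩ : O.toScheme) pt (by
          change t.left (k₀.left pt) = _
          rw [← Scheme.Hom.comp_apply, ← Over.comp_left, hk₀t])
      exact ⟨z⟩
    obtain ⟨m, e, ζ, hζ, hm, cpt, hcψ⟩ := exists_unity_point (K := K) ψ
    let i : CIdx U := ⟨W, hWa, d, a, ha, m, e⟩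
    obtain ⟨xp, hxπ, hxσ⟩ := hpt i K str ζ hζ hm
    let ρ : Spec (CommRingCat.of K) ⟶ O.toScheme := cpt ≫ pullback.fst _ _
    have hρA : ρ ≫ φG ≫ pullback.snd U.hom (AS d S ↘ S) = ptAS str fun j => ζ ^ e j := by
      simp only [ρ, Category.assoc]
      rw [← reassoc_of% hψh, show hK ≫ pullback.snd U.hom (AS d S ↘ S) = AffineSpace.map _ str from
        pullback.lift_snd _ _ _, reassoc_of% hcψ]
      refine AffineSpace.hom_ext ?_ fun j => ?_
      · simp only [ptAS, Category.assoc, AffineSpace.map_over, AffineSpace.homOfVector_over_assoc,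
          AffineSpace.homOfVector_over, Category.id_comp]
      · rw [Scheme.Hom.comp_appTop, CommRingCat.comp_apply, AffineSpace.map_appTop_coord, ptAS, ptAS,
          AffineSpace.homOfVector_appTop_coord, AffineSpace.homOfVector_appTop_coord]
    let sG := (s.left ∣_ W) ∣_ G i₀
    have hsA : φG ≫ pullback.snd U.hom (AS d S ↘ S) = sG ≫ (G i₀).ι ≫ a := by
      simp only [φG, sG, O, Category.assoc]
      rw [show φ i₀ ≫ pullback.snd U.hom (AS d S ↘ S) = (s.left ∣_ W) ≫ a from pullback.lift_snd _ _ _,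
        morphismRestrict_ι_assoc]
    let vi : Spec (CommRingCat.of K) ⟶ V i := pullback.lift (ρ ≫ sG) xp (by
      rw [hxσ, Category.assoc]
      exact (congrArg (ρ ≫ ·) hsA.symm).trans hρA)
    have hρt : (ρ ≫ ι₀) ≫ t.left = u.left := by
      simp only [ρ, Category.assoc]
      rw [pullback.condition, ← reassoc_of% hψs, reassoc_of% hcψ, ptAS, ← Category.assoc]
      exact (congrArg (· ≫ u.left) (AffineSpace.homOfVector_over _ _)).trans (Category.id_comp _)
    let rr : KS ⟶ R' := Over.homMk (ρ ≫ ι₀) (by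
      change (ρ ≫ ι₀) ≫ R'.hom = str
      rw [← Over.w t, ← Category.assoc, hρt, Over.w]; rfl)
    let zz : KS ⟶ Z₀ := Over.homMk (vi ≫ Sigma.ι V i) (by
      change (vi ≫ Sigma.ι V i) ≫ Limits.Sigma.desc _ = str
      rw [Category.assoc, Sigma.ι_desc]
      simp only [qi, vi, pullback.lift_fst_assoc, Category.assoc]
      have e1 : sG ≫ (G i₀).ι ≫ W.ι = ι₀ ≫ s.left := by
        simp only [sG, ι₀, O, morphismRestrict_ι_assoc, morphismRestrict_ι, Category.assoc]
      have e2 := e1 =≫ U.hom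
      simp only [Category.assoc] at e2
      change ρ ≫ sG ≫ (G i₀).ι ≫ W.ι ≫ U.hom = str
      rw [e2, hst, ← Category.assoc, ← Category.assoc, hρt]
      exact Over.w u)
    refine ⟨Points.schemeHomeo Z₀ (zz.left pt), ?_⟩
    rw [← hg pt, Points.map_comp, Points.map_yon_map_apply, ← Function.comp_apply (f := Points.map p),
      ← ofPt_comp_eq_map, ← Scheme.Hom.comp_apply, ← Over.comp_left, ← ofPt_yon_map_comp]
    congr 1
    have hzq : zz ≫ q = rr ≫ s := Over.OverMorphism.ext (by
      change (vi ≫ Sigma.ι V i) ≫ Limits.Sigma.desc qi = (ρ ≫ ι₀) ≫ s.left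
      rw [Category.assoc, Sigma.ι_desc]
      simp only [qi, vi, pullback.lift_fst_assoc, Category.assoc]
      change ρ ≫ sG ≫ (G i₀).ι ≫ W.ι = ρ ≫ ι₀ ≫ s.left
      refine congrArg (ρ ≫ ·) ?_
      simp only [sG, ι₀, O, morphismRestrict_ι_assoc, morphismRestrict_ι, Category.assoc])
    have hrt : rr ≫ t = u := Over.OverMorphism.ext hρt
    rw [hzq, Functor.map_comp, hs, Category.assoc, Category.assoc, sqR.w, ← reassoc_of% ht,
      ← Functor.map_comp_assoc, hrt, hup]

end Groth.Agent.Boot
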