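import Groth.Agent.Boot.Coord
import Mathlib.AlgebraicGeometry.AlgClosed.Basic
import Mathlib.RingTheory.Etale.StandardEtale
import Mathlib.RingTheory.RootsOfUnity.AlgebraicallyClosed
import Mathlib.Algebra.MvPolynomial.Funext
import Mathlib.AlgebraicGeometry.Morphisms.Etale
/-!
Points with coordinates roots of unity.
-/

set_option autoImplicit false
set_option backward.isDefEq.respectTransparency.types false

universe u

open CategoryTheory CategoryTheory.Limits AlgebraicGeometry Polynomial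

namespace Groth.Agent.Boot

/-- The point of affine space with coordinates `a`. -/
noncomputable def ptAS {K : Type u} [Field K] {S : Scheme.{u}} (π₀ : Spec (CommRingCat.of K) ⟶ S)
    {d : ℕ} (a : Fin d → K) : Spec (CommRingCat.of K) ⟶ AS d S :=
  AffineSpace.homOfVector π₀ fun i => (Scheme.ΓSpecIso (CommRingCat.of K)).inv (a i.down)

theorem exists_unity_etale (S : Scheme.{u}) {d : ℕ} (m : ℕ) (e : Fin d → ℕ) :
    ∃ (S' : Scheme.{u}) (π : S' ⟶ S) (σ : S' ⟶ AS d S), Etale π ∧ IsAffineHom π ∧ σ ≫ AS d S ↘ S = π ∧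
      ∀ (K : Type u) [Field K] (π₀ : Spec (CommRingCat.of K) ⟶ S) (ζ : K), ζ ^ (m + 1) = 1 →
        ((m + 1 : ℕ) : K) ≠ 0 →
        ∃ x : Spec (CommRingCat.of K) ⟶ S', x ≫ π = π₀ ∧ x ≫ σ = ptAS π₀ fun i => ζ ^ e i := by
  let Z := ULift.{u} ℤ
  let P : StandardEtalePair Z :=
    { f := X ^ (m + 1) - 1
      monic_f := by simpa using monic_X_pow_sub_C (1 : Z) (Nat.succ_ne_zero m)
      g := C ((m + 1 : ℕ) : Z)
      cond := ⟨X, -C ((m + 1 : ℕ) : Z), 1, by
        rw [derivative_sub, derivative_X_pow, derivative_one, sub_zero, pow_one, pow_succ]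
        simp only [Nat.add_sub_cancel]
        ring⟩ }
  let T₀ : Scheme.{u} := Spec (CommRingCat.of Z)
  let q : Spec (CommRingCat.of P.Ring) ⟶ T₀ := Spec.map (CommRingCat.ofHom (algebraMap Z P.Ring))
  have hq : Etale q := (HasRingHomProperty.Spec_iff (P := @Etale)).2
    (RingHom.etale_algebraMap.2 inferInstance)
  let tS : S ⟶ T₀ := specULiftZIsTerminal.from S
  let π := pullback.fst tS q
  let σ : pullback tS q ⟶ AS d S := AffineSpace.homOfVector π fun i =>
    (pullback.snd tS q).appTop ((Scheme.ΓSpecIso (CommRingCat.of P.Ring)).inv (P.X ^ e i.down))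
  refine ⟨_, π, σ, MorphismProperty.pullback_fst _ _ hq,
    MorphismProperty.pullback_fst _ _ (inferInstance : IsAffineHom q), AffineSpace.homOfVector_over _ _,
    fun K _ π₀ ζ hζ hm => ?_⟩
  letI : Algebra Z K := ((Int.castRingHom K).comp ULift.ringEquiv.toRingHom).toAlgebra
  have hmap : P.HasMap ζ := ⟨by simp [P, hζ], by
    change IsUnit (aeval ζ (C ((m + 1 : ℕ) : Z)))
    rw [aeval_C, map_natCast]
    exact isUnit_iff_ne_zero.2 hm⟩
  let ψ : CommRingCat.of P.Ring ⟶ CommRingCat.of K := CommRingCat.ofHom (P.lift ζ hmap).toRingHom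
  let x : Spec (CommRingCat.of K) ⟶ pullback tS q :=
    pullback.lift π₀ (Spec.map ψ) (specULiftZIsTerminal.hom_ext _ _)
  refine ⟨x, pullback.lift_fst _ _ _, AffineSpace.hom_ext ?_ fun i => ?_⟩
  · rw [Category.assoc, AffineSpace.homOfVector_over, pullback.lift_fst, ptAS, AffineSpace.homOfVector_over]
  · rw [ptAS, AffineSpace.homOfVector_appTop_coord, Scheme.Hom.comp_appTop, CommRingCat.comp_apply,
      AffineSpace.homOfVector_appTop_coord, ← CommRingCat.comp_apply, ← Scheme.Hom.comp_appTop,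
      pullback.lift_snd, ← CommRingCat.comp_apply, ← Scheme.ΓSpecIso_inv_naturality, CommRingCat.comp_apply]
    refine congrArg _ ?_
    change P.lift ζ hmap (P.X ^ e i.down) = _
    rw [map_pow, StandardEtalePair.lift_X]

theorem infinite_setOf_unity (K : Type u) [Field K] [IsAlgClosed K] :
    {x : K | ∃ n : ℕ, (n : K) ≠ 0 ∧ x ^ n = 1}.Infinite := by
  obtain ⟨p, hp⟩ := CharP.exists K
  intro hfin
  obtain ⟨l, hl, hlp⟩ := Nat.exists_infinite_primes (max (hfin.toFinset.card + 1) (p + 1))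
  haveI := Fact.mk hlp
  have hlK : (l : K) ≠ 0 := by
    rw [Ne, CharP.cast_eq_zero_iff K p]
    intro h
    rcases (Nat.dvd_prime hlp).1 h with h1 | h1
    · exact CharP.char_ne_one K p h1
    · omega
  haveI : NeZero (l : K) := ⟨hlK⟩
  obtain ⟨z, hz⟩ := HasEnoughRootsOfUnity.exists_primitiveRoot K l
  have : ((Polynomial.nthRootsFinset l (1 : K))).card ≤ hfin.toFinset.card := Finset.card_le_card fun x hx => by
    rw [Set.Finite.mem_toFinset]
    exact ⟨l, hlK, (Polynomial.mem_nthRootsFinset hlp.pos 1).1 hx⟩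
  rw [hz.card_nthRootsFinset] at this
  omega

theorem exists_unity_point {K : Type u} [Field K] [IsAlgClosed K] {d : ℕ} {C₀ : Scheme.{u}}
    (φ : C₀ ⟶ AS d (Spec (CommRingCat.of K))) [Etale φ] [Nonempty C₀] :
    ∃ (m : ℕ) (e : Fin d → ℕ) (ζ : K), ζ ^ (m + 1) = 1 ∧ ((m + 1 : ℕ) : K) ≠ 0 ∧
      ∃ c : Spec (CommRingCat.of K) ⟶ C₀, c ≫ φ = ptAS (𝟙 _) fun i => ζ ^ e i := by
  let I := AffineSpace.SpecIso (ULift.{u} (Fin d)) (CommRingCat.of K)
  let ψ := φ ≫ I.hom
  haveI : Etale ψ := inferInstance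
  have hne : (Set.range ψ).Nonempty := Set.range_nonempty _
  obtain ⟨p, hp⟩ := hne
  obtain ⟨_, ⟨g, rfl⟩, hpg, hgΩ⟩ :=
    PrimeSpectrum.isTopologicalBasis_basic_opens.exists_subset_of_mem_open hp ψ.isOpenMap.isOpen_range
  have hg0 : g ≠ 0 := fun h => hpg (h ▸ zero_mem _)
  let U₀ : Set K := {x | ∃ n : ℕ, (n : K) ≠ 0 ∧ x ^ n = 1}
  obtain ⟨a, haU, hag⟩ : ∃ a : ULift.{u} (Fin d) → K, (∀ i, a i ∈ U₀) ∧ MvPolynomial.eval a g ≠ 0 := by
    by_contra h
    push Not at h
    exact hg0 (MvPolynomial.funext_set (s := fun _ => U₀) (fun _ => infinite_setOf_unity K)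
      fun x hx => by rw [map_zero]; exact h x fun i => hx i trivial)
  choose n hnK hn using haU
  let M := ∏ i, n i
  have hMK : (M : K) ≠ 0 := by
    rw [Nat.cast_prod]; exact Finset.prod_ne_zero_iff.2 fun i _ => hnK i
  have hM0 : M ≠ 0 := fun h => hMK (by rw [h, Nat.cast_zero])
  haveI : NeZero (M : K) := ⟨hMK⟩
  obtain ⟨m, hm⟩ : ∃ m, M = m + 1 := ⟨M - 1, by omega⟩
  obtain ⟨ζ, hζ⟩ := HasEnoughRootsOfUnity.exists_primitiveRoot K M
  haveI : NeZero M := ⟨hM0⟩
  have he : ∀ i, ∃ k : ℕ, ζ ^ k = a i := fun i => by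
    obtain ⟨k, -, hk⟩ := hζ.eq_pow_of_pow_eq_one (ξ := a i) (by
      obtain ⟨c, hc⟩ : n i ∣ M := Finset.dvd_prod_of_mem n (Finset.mem_univ i)
      rw [hc, pow_mul, hn, one_pow])
    exact ⟨k, hk⟩
  choose e he using he
  let e' : Fin d → ℕ := fun i => e ⟨i⟩
  refine ⟨m, e', ζ, hm ▸ hζ.pow_eq_one, hm ▸ hMK, ?_⟩
  let x₀ := ptAS (𝟙 (Spec (CommRingCat.of K))) fun i => ζ ^ e' i
  let ev : CommRingCat.of (MvPolynomial (ULift.{u} (Fin d)) K) ⟶ CommRingCat.of K :=
    CommRingCat.ofHom (MvPolynomial.eval a)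
  have hx₀ : x₀ = Spec.map ev ≫ I.inv := by
    refine AffineSpace.hom_ext ?_ fun i => ?_
    · rw [Category.assoc, AffineSpace.SpecIso_inv_over, ← Spec.map_comp,
        show CommRingCat.ofHom MvPolynomial.C ≫ ev = 𝟙 _ from
          CommRingCat.hom_ext (RingHom.ext fun c => MvPolynomial.eval_C c), Spec.map_id]
      exact AffineSpace.homOfVector_over _ _
    · rw [Scheme.Hom.comp_appTop, CommRingCat.comp_apply, AffineSpace.SpecIso_inv_appTop_coord,
        ← CommRingCat.comp_apply, ← Scheme.ΓSpecIso_inv_naturality, CommRingCat.comp_apply]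
      change (ptAS _ _).appTop _ = _
      rw [ptAS, AffineSpace.homOfVector_appTop_coord]
      refine congrArg _ ?_
      change ζ ^ e i = MvPolynomial.eval a (MvPolynomial.X i)
      rw [MvPolynomial.eval_X, he]
  let pt : ↥(Spec (CommRingCat.of K)) := IsLocalRing.closedPoint K
  obtain ⟨y, hy⟩ : (Spec.map ev) pt ∈ Set.range ψ := hgΩ fun hmem => hag (by
    have h0 : MvPolynomial.eval a g ∈ pt.asIdeal := hmem
    rw [show pt.asIdeal = ⊥ from (Ideal.eq_bot_or_top _).resolve_right pt.isPrime.ne_top, Ideal.mem_bot] at h0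
    exact h0)
  have hyx : φ y = x₀ pt := by
    rw [hx₀, Scheme.Hom.comp_apply, ← hy, ← Scheme.Hom.comp_apply, Category.assoc, Iso.hom_inv_id, Category.comp_id]
  obtain ⟨z, -, -⟩ := Scheme.Pullback.exists_preimage_pullback y pt hyx
  let Cx := pullback φ x₀
  let pr : Cx ⟶ Spec (CommRingCat.of K) := pullback.snd φ x₀
  haveI : Etale pr := MorphismProperty.pullback_snd _ _ ‹_›
  haveI : JacobsonSpace ↥Cx := LocallyOfFiniteType.jacobsonSpace pr
  obtain ⟨w, -, hw⟩ := nonempty_inter_closedPoints (Z := (Set.univ : Set ↥Cx)) ⟨z, trivial⟩ isOpen_univ.isLocallyClosed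
  refine ⟨pointOfClosedPoint pr w hw ≫ pullback.fst φ x₀, ?_⟩
  rw [Category.assoc, pullback.condition, pointOfClosedPoint_comp_assoc]

end Groth.Agent.Boot
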