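import Groth.Agent.Boot.Saturate
import Groth.Agent.Boot.Unity
import Groth.Agent.ASp.ImmDesc
import Groth.Agent.ASp.Points
/-!
Auxiliary facts for the bootstrap theorem.
-/

set_option autoImplicit false
set_option backward.isDefEq.respectTransparency false
set_option backward.isDefEq.respectTransparency.types false

universe u

open CategoryTheory CategoryTheory.Limits AlgebraicGeometry Opposite

namespace Groth.Agent.Boot

open _root_.AlgSp Groth.Agent.ASp

theorem exists_section_of_nonempty {K : Type u} [Field K] [IsAlgClosed K] {C : Scheme.{u}}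
    (f : C ⟶ Spec (CommRingCat.of K)) [LocallyOfFiniteType f] [Nonempty C] :
    ∃ c : Spec (CommRingCat.of K) ⟶ C, c ≫ f = 𝟙 _ := by
  haveI : JacobsonSpace ↥C := LocallyOfFiniteType.jacobsonSpace f
  obtain ⟨w, -, hw⟩ := nonempty_inter_closedPoints (Z := (Set.univ : Set ↥C)) Set.univ_nonempty
    isOpen_univ.isLocallyClosed
  exact ⟨_, pointOfClosedPoint_comp f w hw⟩

/-- Coproducts of separated schemes are separated. -/
theorem isSeparated_sigma {ι : Type u} (X : ι → Scheme.{u}) [∀ i, (X i).IsSeparated] :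
    (∐ X).IsSeparated := by
  let ι' := fun i => Sigma.ι X i
  let f := terminal.from (∐ X)
  let Δ := pullback.diagonal f
  suffices h : IsClosed (Set.range Δ) by
    haveI : IsClosedImmersion Δ := IsClosedImmersion.of_isPreimmersion Δ h
    exact ⟨⟨‹IsClosedImmersion Δ›⟩⟩
  rw [← isOpen_compl_iff, isOpen_iff_forall_mem_open]
  intro z hz
  obtain ⟨i, a, ha⟩ := (sigmaOpenCover X).exists_eq (pullback.fst f f z)
  obtain ⟨j, b, hb⟩ := (sigmaOpenCover X).exists_eq (pullback.snd f f z)
  have ha' : Sigma.ι X i a = pullback.fst f f z := ha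
  have hb' : Sigma.ι X j b = pullback.snd f f z := hb
  haveI hio : ∀ k, IsOpenImmersion (Sigma.ι X k) := fun k => (sigmaOpenCover X).map_prop k
  by_cases hij : i = j
  · subst hij
    let m := pullback.map (terminal.from (X i)) (terminal.from (X i)) f f (Sigma.ι X i) (Sigma.ι X i) (𝟙 _)
      (Subsingleton.elim _ _) (Subsingleton.elim _ _)
    haveI : IsClosedImmersion (pullback.diagonal (terminal.from (X i))) := inferInstance
    refine ⟨m '' (Set.range (pullback.diagonal (terminal.from (X i))))ᶜ, ?_, ?_, ?_⟩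
    · rintro _ ⟨w, hw, rfl⟩ ⟨v, hv⟩
      have h1 : pullback.fst f f (m w) = v := by
        rw [← hv, ← Scheme.Hom.comp_apply, pullback.diagonal_fst]; rfl
      have h2 : (pullback.fst (terminal.from (X i)) (terminal.from (X i)) ≫ Sigma.ι X i) w = v := by
        rw [← h1, ← Scheme.Hom.comp_apply]
        simp [m, pullback.map]
      rw [Scheme.Hom.comp_apply] at h2
      refine hw ⟨pullback.fst (terminal.from (X i)) (terminal.from (X i)) w, m.isOpenEmbedding.injective ?_⟩
      have h3 : pullback.diagonal (terminal.from (X i)) ≫ m = Sigma.ι X i ≫ Δ := by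
        apply pullback.hom_ext
        · simp [m, Δ, pullback.map]
        · simp [m, Δ, pullback.map]
      rw [← Scheme.Hom.comp_apply, h3, Scheme.Hom.comp_apply, h2, hv]
    · exact m.isOpenMap _ (pullback.diagonal (terminal.from (X i))).isClosedEmbedding.isClosed_range.isOpen_compl
    · have hm : z ∈ Set.range m := by
        rw [Scheme.Pullback.range_map]
        exact ⟨⟨a, ha'⟩, ⟨b, hb'⟩⟩
      obtain ⟨w, rfl⟩ := hm
      refine ⟨w, fun ⟨v, hv⟩ => hz ⟨Sigma.ι X i v, ?_⟩, rfl⟩
      have h3 : pullback.diagonal (terminal.from (X i)) ≫ m = Sigma.ι X i ≫ Δ := by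
        apply pullback.hom_ext
        · simp [m, Δ, pullback.map]
        · simp [m, Δ, pullback.map]
      rw [← hv, ← Scheme.Hom.comp_apply, ← Scheme.Hom.comp_apply, h3]
  · refine ⟨(pullback.fst f f) ⁻¹' Set.range (Sigma.ι X i) ∩ (pullback.snd f f) ⁻¹' Set.range (Sigma.ι X j),
      ?_, ?_, ⟨⟨a, ha'⟩, ⟨b, hb'⟩⟩⟩
    · rintro _ ⟨⟨c, hc⟩, ⟨e, he⟩⟩ ⟨v, rfl⟩
      rw [← Scheme.Hom.comp_apply, pullback.diagonal_fst] at hc
      rw [← Scheme.Hom.comp_apply, pullback.diagonal_snd] at he
      exact Set.disjoint_iff.1 ((TopologicalSpace.Opens.coe_disjoint).2 (disjoint_opensRange_sigmaι X i j hij))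
        ⟨⟨c, rfl⟩, ⟨e, he.trans hc.symm⟩⟩
    · exact (((Sigma.ι X i).isOpenEmbedding.isOpen_range).preimage (pullback.fst f f).continuous).inter
        (((Sigma.ι X j).isOpenEmbedding.isOpen_range).preimage (pullback.snd f f).continuous)

variable {S : Scheme.{u}}

/-- Every point comes from a point over an algebraically closed field. -/
theorem exists_geometric {F : Sp S} (x : Points F) :
    ∃ (K : Type u) (_ : Field K) (_ : IsAlgClosed K) (str : Spec (CommRingCat.of K) ⟶ S)
      (g : (yon S).obj (Over.mk str) ⟶ F), ∀ w : ↥(Spec (CommRingCat.of K)), Points.ofPt g w = x := by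
  obtain ⟨T, g, t, rfl⟩ := exists_ofPt_eq x
  let k := ↥(T.left.residueField t)
  let K := AlgebraicClosure k
  let j : T.left.residueField t ⟶ CommRingCat.of K := CommRingCat.ofHom (algebraMap k K)
  let l : Over.mk ((Spec.map j ≫ T.left.fromSpecResidueField t) ≫ T.hom) ⟶ T :=
    Over.homMk (Spec.map j ≫ T.left.fromSpecResidueField t) rfl
  refine ⟨K, inferInstance, inferInstance, _, (yon S).map l ≫ g, fun w => ?_⟩
  rw [ofPt_yon_map_comp]
  congr 1
  change (T.left.fromSpecResidueField t) ((Spec.map j) w) = t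
  exact Scheme.fromSpecResidueField_apply _ _

/-- Maps from the spectrum of a field with the same image point. -/
theorem surjective_ofPt_of_subsingleton {T : Over S} (w : ↥T.left) [Subsingleton ↥T.left]
    (y : Points ((yon S).obj T)) : y = Points.schemeHomeo T w := by
  obtain ⟨v, rfl⟩ := (Points.schemeHomeo T).surjective y
  rw [Subsingleton.elim v w]

theorem isPullback_diag_kernelPair {F A Q RS : Sp S} (p : A ⟶ F) {r₁ r₂ : RS ⟶ A} {q₁ q₂ : Q ⟶ A}
    (hR : IsPullback r₁ r₂ p p) (z : RS ⟶ Q) (hz₁ : z ≫ q₁ = r₁) (hz₂ : z ≫ q₂ = r₂)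
    (hjm : ∀ {W : Sp S} (a b : W ⟶ Q), a ≫ q₁ = b ≫ q₁ → a ≫ q₂ = b ≫ q₂ → a = b) :
    IsPullback (r₁ ≫ p) z (Limits.diag F) (prod.lift (q₁ ≫ p) (q₂ ≫ p)) := by
  refine IsPullback.of_isLimit' ⟨?_⟩ (PullbackCone.IsLimit.mk _
    (fun c => hR.lift (c.snd ≫ q₁) (c.snd ≫ q₂) ?_) (fun c => ?_) (fun c => ?_) (fun c m h₁ h₂ => ?_))
  · apply prod.hom_ext
    · simp [reassoc_of% hz₁]
    · simp [reassoc_of% hz₂, hR.w]
  · have e1 := congrArg (· ≫ prod.fst) c.condition
    have e2 := congrArg (· ≫ prod.snd) c.condition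
    simp only [Category.assoc, prod.lift_fst, prod.lift_snd, Category.comp_id] at e1 e2
    rw [Category.assoc, Category.assoc, ← e1, ← e2]
  · have e1 := congrArg (· ≫ prod.fst) c.condition
    simp only [Category.assoc, prod.lift_fst, Category.comp_id] at e1
    rw [hR.lift_fst_assoc, Category.assoc]
    exact e1.symm
  · refine hjm _ _ ?_ ?_
    · rw [Category.assoc, hz₁, hR.lift_fst]
    · rw [Category.assoc, hz₂, hR.lift_snd]
  · refine hR.hom_ext ?_ ?_
    · rw [hR.lift_fst, ← h₂, Category.assoc, hz₁]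
    · rw [hR.lift_snd, ← h₂, Category.assoc, hz₂]

theorem hom_ext_terminal {W : Sp S} (a b : W ⟶ (yon S).obj (Over.mk (𝟙 S))) : a = b := by
  ext T x
  refine ULift.ext _ _ ?_
  exact Over.OverMorphism.ext ((Category.comp_id _).symm.trans ((Over.w _).trans ((Over.w _).symm.trans (Category.comp_id _))))

end Groth.Agent.Boot
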