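import Groth.Agent.SmoothCoords.Basic
import Mathlib.Algebra.TrivSqZeroExt.Basic
import Mathlib.LinearAlgebra.Dimension.StrongRankCondition
/-!
Etale coordinates on a smooth algebra chosen among elements whose differentials span.
-/

set_option autoImplicit false

universe u

open TensorProduct KaehlerDifferential Module

namespace Groth.Agent.Boot

/-- If the differentials of `g a` span, every derivation killed by them is zero; conversely. -/
theorem span_D_eq_top {B C A : Type u} [CommRing B] [CommRing C] [Algebra B C] (g : A → C)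
    (h : ∀ (M : Type u) [AddCommGroup M] [Module C M] [Module B M] [IsScalarTower B C M]
      (δ : Derivation B C M), (∀ a, δ (g a) = 0) → δ = 0) :
    Submodule.span C (Set.range fun a => D B C (g a)) = ⊤ := by
  let T := Submodule.span C (Set.range fun a => D B C (g a))
  have h0 := h (Ω[C⁄B] ⧸ T) (T.mkQ.compDer (D B C)) fun a =>
    (Submodule.Quotient.mk_eq_zero T).2 (Submodule.subset_span ⟨a, rfl⟩)
  rw [eq_top_iff, ← span_range_derivation, Submodule.span_le]
  rintro _ ⟨c, rfl⟩
  exact (Submodule.Quotient.mk_eq_zero T).1 (congrArg (fun δ : Derivation B C _ => δ c) h0)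

/-- Square-zero extensions detect derivations. -/
theorem derivation_eq_zero_of_lifts {B C : Type u} [CommRing B] [CommRing C] [Algebra B C]
    {M : Type u} [AddCommGroup M] [Module C M] [Module B M] [IsScalarTower B C M] (δ : Derivation B C M)
    (H : ∀ (E : Type u) [CommRing E] (π : E →+* C) (φ₁ φ₂ : C →+* E), Function.Surjective π →
      RingHom.ker π ^ 2 = ⊥ → (π.comp φ₁ = RingHom.id C) → (π.comp φ₂ = RingHom.id C) →
      (∀ c, δ c = 0 → φ₁ c = φ₂ c) → φ₁ = φ₂) : δ = 0 := by
  letI : Module Cᵐᵒᵖ M := Module.compHom M ((RingHom.id C).fromOpposite mul_comm)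
  haveI : IsCentralScalar C M := ⟨fun _ _ => rfl⟩
  let φ₂ : C →+* TrivSqZeroExt C M :=
    { toFun := fun c => TrivSqZeroExt.inl c + TrivSqZeroExt.inr (δ c)
      map_one' := by simp
      map_mul' := fun a b => by
        refine TrivSqZeroExt.ext ?_ ?_
        · simp
        · simp [TrivSqZeroExt.snd_mul, op_smul_eq_smul]
      map_zero' := by simp
      map_add' := fun a b => by simp [TrivSqZeroExt.inl_add, TrivSqZeroExt.inr_add]; abel }
  have := H (TrivSqZeroExt C M) (TrivSqZeroExt.fstHom C C M).toRingHom (TrivSqZeroExt.inlHom C M) φ₂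
    (fun c => ⟨TrivSqZeroExt.inl c, rfl⟩) (by
      rw [pow_two, eq_bot_iff, Ideal.mul_le]
      intro x hx y hy
      rw [RingHom.mem_ker] at hx hy
      change x * y = 0
      refine TrivSqZeroExt.ext ?_ ?_
      · rw [TrivSqZeroExt.fst_mul, show x.fst = 0 from hx, zero_mul]; rfl
      · rw [TrivSqZeroExt.snd_mul, show x.fst = 0 from hx, show y.fst = 0 from hy]; simp)
    (RingHom.ext fun c => rfl) (RingHom.ext fun c => by simp [φ₂])
    (fun c hc => by simp [φ₂, hc])
  ext c
  have := congrArg (fun φ : C →+* TrivSqZeroExt C M => (φ c).snd) this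
  simpa [φ₂] using this.symm

theorem exists_etale_coords {B C A : Type u} [CommRing B] [CommRing C] [Algebra B C] [Algebra.Smooth B C]
    (g : A → C) (hspan : Submodule.span C (Set.range fun a => D B C (g a)) = ⊤)
    (q : Ideal C) [q.IsPrime] :
    ∃ h ∉ q, ∃ (d : ℕ) (f : ULift.{u} (Fin d) → A),
      (MvPolynomial.aeval fun i => algebraMap C (Localization.Away h) (g (f i)) :
        MvPolynomial (ULift.{u} (Fin d)) B →ₐ[B] Localization.Away h).toRingHom.Etale := by
  classical
  obtain ⟨g₀, hg₀, hstd⟩ := Algebra.IsSmoothAt.exists_notMem_isStandardSmooth B q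
  let T := Localization.Away g₀
  haveI : Algebra.IsStandardSmooth B T := hstd
  let q₁ : Ideal T := q.map (algebraMap C T)
  haveI : q₁.IsPrime := IsLocalization.isPrime_of_isPrime_disjoint (.powers g₀) _ _ ‹_›
    (by rwa [Ideal.disjoint_powers_iff_notMem_of_isPrime])
  have hq₁ : q₁.comap (algebraMap C T) = q :=
    IsLocalization.under_map_of_isPrime_disjoint (.powers g₀) T ‹_›
      (by rwa [Ideal.disjoint_powers_iff_notMem_of_isPrime])
  let κ := q₁.ResidueField
  haveI : Nontrivial T := (algebraMap T κ).domain_nontrivial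
  let b := Module.Free.chooseBasis T Ω[T⁄B]
  let ι₀ := Module.Free.ChooseBasisIndex T Ω[T⁄B]
  haveI : Fintype ι₀ := inferInstance
  let d := Fintype.card ι₀
  let e : ι₀ ≃ Fin d := Fintype.equivFin _
  let bd : Basis (Fin d) T Ω[T⁄B] := b.reindex e
  let v : A → (Fin d → κ) := fun a i => algebraMap T κ (bd.repr (D B T (algebraMap C T (g a))) i)
  have hspanT : Submodule.span T (Set.range fun a => D B T (algebraMap C T (g a))) = ⊤ := by
    rw [eq_top_iff, ← span_range_map_derivation_of_isLocalization (R := B) (M := Submonoid.powers g₀) (T := T),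
      Submodule.span_le]
    rintro _ ⟨c, rfl⟩
    have hc : D B C c ∈ Submodule.span C (Set.range fun a => D B C (g a)) := hspan ▸ Submodule.mem_top
    simp only [Function.comp_apply, SetLike.mem_coe]
    generalize D B C c = z at hc ⊢
    induction hc using Submodule.span_induction with
    | mem x hx =>
      obtain ⟨a, rfl⟩ := hx
      rw [KaehlerDifferential.map_D]
      exact Submodule.subset_span ⟨a, rfl⟩
    | zero => simp
    | add x y _ _ hx hy => rw [map_add]; exact add_mem hx hy
    | smul r x _ hx =>
      rw [map_smul, ← algebraMap_smul (R := C) T r]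
      exact Submodule.smul_mem _ _ hx
  have hv : Submodule.span κ (Set.range v) = ⊤ := by
    rw [eq_top_iff, ← (Pi.basisFun κ (Fin d)).span_eq, Submodule.span_le]
    rintro _ ⟨j, rfl⟩
    let L : Ω[T⁄B] → (Fin d → κ) := fun z i => algebraMap T κ (bd.repr z i)
    have key : ∀ z : Ω[T⁄B], L z ∈ Submodule.span κ (Set.range v) := fun z => by
      have hz : z ∈ Submodule.span T (Set.range fun a => D B T (algebraMap C T (g a))) := hspanT ▸ Submodule.mem_top
      induction hz using Submodule.span_induction with
      | mem x hx => obtain ⟨a, rfl⟩ := hx; exact Submodule.subset_span ⟨a, rfl⟩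
      | zero => rw [show L 0 = 0 from funext fun i => by simp [L]]; exact zero_mem _
      | add x y _ _ hx hy =>
        rw [show L (x + y) = L x + L y from funext fun i => by simp [L]]; exact add_mem hx hy
      | smul r x _ hx =>
        rw [show L (r • x) = algebraMap T κ r • L x from funext fun i => by simp [L]]
        exact Submodule.smul_mem _ _ hx
    rw [SetLike.mem_coe]
    refine (congrArg (· ∈ Submodule.span κ (Set.range v)) ?_).mpr (key (bd j))
    funext i
    simp [L, Pi.basisFun_apply, Finsupp.single_apply, Pi.single_apply, eq_comm, apply_ite (algebraMap T κ)]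
  -- a subfamily giving a basis of the fibre
  obtain ⟨s, hs, hsp, hli⟩ := exists_linearIndependent κ (Set.range v)
  let bs : Basis s κ (Fin d → κ) := Basis.mk hli (by simp [hsp, hv])
  let e₂ : s ≃ Fin d := bs.indexEquiv (Pi.basisFun κ (Fin d))
  choose f hf using fun i : Fin d => hs (e₂.symm i).2
  let bv : Basis (Fin d) κ (Fin d → κ) := bs.reindex e₂
  have hbv : ∀ i, bv i = v (f i) := fun i => by
    rw [hf, Basis.reindex_apply, Basis.mk_apply]
  let Dt : T := bd.det fun i => D B T (algebraMap C T (g (f i)))
  have hDt : algebraMap T κ Dt ≠ 0 := by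
    rw [show Dt = (bd.toMatrix fun i => D B T (algebraMap C T (g (f i)))).det from Basis.det_apply _ _,
      RingHom.map_det]
    have : (algebraMap T κ).mapMatrix (bd.toMatrix fun i => D B T (algebraMap C T (g (f i)))) =
        (Pi.basisFun κ (Fin d)).toMatrix bv := by
      ext i j
      simp [Basis.toMatrix_apply, hbv, v]
    rw [this, ← Basis.det_apply]
    exact ((Pi.basisFun κ (Fin d)).isUnit_det bv).ne_zero
  -- localize once more
  let U := Localization.Away Dt
  let h : C := g₀ * (IsLocalization.Away.sec g₀ Dt).1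
  have hsec := IsLocalization.Away.associated_sec_fst (S := T) g₀ Dt
  haveI : IsLocalization.Away h U := .mul_of_associated _ _ Dt hsec
  have hh : h ∉ q := by
    refine Ideal.IsPrime.mul_notMem inferInstance hg₀ fun hmem => ?_
    obtain ⟨w, hw⟩ := hsec
    have hmem' : algebraMap C T (IsLocalization.Away.sec g₀ Dt).1 ∈ q₁ := Ideal.mem_map_of_mem _ hmem
    have h0 : algebraMap T κ (algebraMap C T (IsLocalization.Away.sec g₀ Dt).1) = 0 :=
      Ideal.algebraMap_residueField_eq_zero.2 hmem'
    have h1 := congrArg (algebraMap T κ) hw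
    rw [map_mul, h0, zero_mul] at h1
    exact hDt h1.symm
  haveI : Algebra.Smooth B U := Algebra.Smooth.comp B T U
  let bU : Basis (Fin d) U Ω[U⁄B] :=
    (bd.baseChange U).map (KaehlerDifferential.isBaseChange_of_formallyEtale B T U).equiv
  have hbU : ∀ (t : T) i, bU.repr (D B U (algebraMap T U t)) i = algebraMap T U (bd.repr (D B T t) i) := by
    intro t i
    have h : (KaehlerDifferential.isBaseChange_of_formallyEtale B T U).equiv ((1 : U) ⊗ₜ[T] D B T t) =
        D B U (algebraMap T U t) := by
      rw [IsBaseChange.equiv_tmul, one_smul]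
      exact KaehlerDifferential.map_D B B T U t
    rw [Basis.map_repr, LinearEquiv.trans_apply, ← h, LinearEquiv.symm_apply_apply,
      Basis.baseChange_repr_tmul, Algebra.smul_def, mul_one]
  have hunit : IsUnit (bU.det fun i => D B U (algebraMap T U (algebraMap C T (g (f i))))) := by
    have : bU.toMatrix (fun i => D B U (algebraMap T U (algebraMap C T (g (f i))))) =
        (algebraMap T U).mapMatrix (bd.toMatrix fun i => D B T (algebraMap C T (g (f i)))) := by
      ext i j
      simp only [RingHom.mapMatrix_apply, Matrix.map_apply, Basis.toMatrix_apply, hbU]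
    rw [Basis.det_apply, this, ← RingHom.map_det, ← Basis.det_apply]
    exact IsLocalization.Away.algebraMap_isUnit Dt
  obtain ⟨hli', hsp'⟩ := (Basis.is_basis_iff_det bU).2 hunit
  let φ₀ : MvPolynomial (Fin d) B →ₐ[B] U :=
    MvPolynomial.aeval fun i => algebraMap T U (algebraMap C T (g (f i)))
  have het : φ₀.toRingHom.Etale := Groth.Agent.SmoothCoords.etale_of_basis φ₀ (Basis.mk hli' hsp'.ge) fun i => by
    rw [Basis.mk_apply, MvPolynomial.aeval_X]
  let eU : U ≃ₐ[C] Localization.Away h :=
    IsLocalization.algEquiv (Submonoid.powers h) U (Localization.Away h)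
  refine ⟨h, hh, d, fun i => f i.down, ?_⟩
  have heq : (MvPolynomial.aeval fun i : ULift.{u} (Fin d) => algebraMap C (Localization.Away h) (g (f i.down)) :
      MvPolynomial (ULift.{u} (Fin d)) B →ₐ[B] Localization.Away h) =
      ((eU.restrictScalars B).toAlgHom.comp φ₀).comp (MvPolynomial.renameEquiv B Equiv.ulift).toAlgHom := by
    refine MvPolynomial.algHom_ext fun i => ?_
    simp only [AlgHom.comp_apply, AlgEquiv.coe_toAlgHom, MvPolynomial.renameEquiv_apply, MvPolynomial.rename_X,
      φ₀, MvPolynomial.aeval_X]
    rw [← IsScalarTower.algebraMap_apply]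
    exact (eU.commutes _).symm
  rw [heq]
  exact RingHom.Etale.respectsIso.2 ((eU.restrictScalars B).toAlgHom.comp φ₀).toRingHom
    (MvPolynomial.renameEquiv B Equiv.ulift).toRingEquiv (RingHom.Etale.respectsIso.1 _ eU.toRingEquiv het)

end Groth.Agent.Boot
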