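import Groth.Agent.Boot.EtAt
import Groth.Agent.Boot.CoordAlg
import Mathlib.AlgebraicGeometry.AffineSpace
import Mathlib.AlgebraicGeometry.Morphisms.FormallyUnramified
import Mathlib.AlgebraicGeometry.Morphisms.Smooth
/-!
Etale coordinates for the projection of a "relation" `(s, t) : R' ⟶ U × U` with unramified `(s, t)` and
smooth `t`, chosen among functions on the first copy of `U`.
-/

set_option autoImplicit false
set_option backward.isDefEq.respectTransparency.types false

universe u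

open CategoryTheory CategoryTheory.Limits AlgebraicGeometry

namespace Groth.Agent.Boot

theorem isNilpotent_ker_SpecMap {E C : CommRingCat.{u}} (π : E ⟶ C)
    (hπ : RingHom.ker π.hom ^ 2 = ⊥) : IsNilpotent (Spec.map π).ker := by
  refine ⟨2, Scheme.IdealSheafData.ext_of_isAffine ?_⟩
  simp only [Scheme.IdealSheafData.ideal_pow, Pi.pow_apply, Scheme.Hom.ker_apply]
  rw [show ((0 : Scheme.IdealSheafData (Spec E))).ideal ⟨⊤, isAffineOpen_top _⟩ = ⊥ from rfl,
    pow_two, eq_bot_iff, Ideal.mul_le]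
  intro x hx y hy
  have key : ∀ z, z ∈ RingHom.ker ((Spec.map π).app (⊤ : (Spec E).Opens)).hom →
      (Scheme.ΓSpecIso E).hom z ∈ RingHom.ker π.hom := fun z hz => by
    rw [RingHom.mem_ker] at hz ⊢
    have := congrArg (fun φ => φ.hom z) (Scheme.ΓSpecIso_naturality π)
    simp only [CommRingCat.hom_comp, RingHom.comp_apply] at this
    rw [← this, show ((Spec.map π).appTop).hom z = 0 from hz]
    exact map_zero _
  have h2 : (Scheme.ΓSpecIso E).hom x * (Scheme.ΓSpecIso E).hom y ∈ RingHom.ker π.hom ^ 2 := by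
    rw [pow_two]; exact Ideal.mul_mem_mul (key x hx) (key y hy)
  rw [hπ, Ideal.mem_bot, ← map_mul] at h2
  rw [Ideal.mem_bot]
  exact (Scheme.ΓSpecIso E).commRingCatIsoToRingEquiv.injective (h2.trans (map_zero _).symm)

variable {S U X : Scheme.{u}}

/-- Affine space of dimension `d` with universe-polymorphic index. -/
noncomputable abbrev AS (d : ℕ) (S : Scheme.{u}) : Scheme.{u} := 𝔸(ULift.{u} (Fin d); S)

theorem exists_coords (πU : U ⟶ S) (s t : X ⟶ U) (hst : s ≫ πU = t ≫ πU) [Smooth t]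
    (hu : ∀ (Z' Z : Scheme.{u}) (i : Z' ⟶ Z), IsClosedImmersion i → IsNilpotent i.ker →
      ∀ g₁ g₂ : Z ⟶ X, i ≫ g₁ = i ≫ g₂ → g₁ ≫ s = g₂ ≫ s → g₁ ≫ t = g₂ ≫ t → g₁ = g₂) (r : X) :
    ∃ (W : U.Opens) (_ : IsAffineOpen W) (d : ℕ) (a : W.toScheme ⟶ AS d S) (ha : a ≫ AS d S ↘ S = W.ι ≫ πU) (hr : s r ∈ W),
      EtAt (pullback.lift ((s ⁻¹ᵁ W).ι ≫ t) ((s ∣_ W) ≫ a)
        (by rw [Category.assoc, Category.assoc, ha, morphismRestrict_ι_assoc, hst]) :
          (s ⁻¹ᵁ W).toScheme ⟶ pullback πU (AS d S ↘ S)) ⟨r, hr⟩ := by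
  obtain ⟨V, hV, hrV, -⟩ := exists_isAffineOpen_mem_and_subset (x := t r) (U := (⊤ : U.Opens)) trivial
  obtain ⟨W, hW, hrW, -⟩ := exists_isAffineOpen_mem_and_subset (x := s r) (U := (⊤ : U.Opens)) trivial
  obtain ⟨D, hD, hrD, hDle⟩ :=
    exists_isAffineOpen_mem_and_subset (x := r) (U := t ⁻¹ᵁ V ⊓ s ⁻¹ᵁ W) ⟨hrV, hrW⟩
  have hDV : D ≤ t ⁻¹ᵁ V := le_trans hDle inf_le_left
  have hDW : D ≤ s ⁻¹ᵁ W := le_trans hDle inf_le_right
  let φ := t.appLE V D hDV
  let g := s.appLE W D hDW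
  let _ := φ.hom.toAlgebra
  have hsm : φ.hom.Smooth := HasRingHomProperty.appLE (P := @Smooth) t ‹_› ⟨V, hV⟩ ⟨D, hD⟩ hDV
  haveI : Algebra.Smooth Γ(U, V) Γ(X, D) := hsm
  have hspan := span_D_eq_top (B := Γ(U, V)) (fun a : Γ(U, W) => g.hom a) fun M _ _ _ _ δ hδ =>
    derivation_eq_zero_of_lifts δ fun E _ π φ₁ φ₂ hπ hker h₁ h₂ hag => by
      let π' : CommRingCat.of E ⟶ Γ(X, D) := CommRingCat.ofHom π
      let f₁ : Γ(X, D) ⟶ CommRingCat.of E := CommRingCat.ofHom φ₁
      let f₂ : Γ(X, D) ⟶ CommRingCat.of E := CommRingCat.ofHom φ₂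
      have hf : ∀ {a : CommRingCat.{u}} (k : a ⟶ Γ(X, D)), (∀ x, δ (k.hom x) = 0) → k ≫ f₁ = k ≫ f₂ :=
        fun k hk => CommRingCat.hom_ext (RingHom.ext fun x => hag _ (hk x))
      have : IsClosedImmersion (Spec.map π') := IsClosedImmersion.spec_of_surjective π' hπ
      have := hu _ _ (Spec.map π') this (isNilpotent_ker_SpecMap π' hker)
        (Spec.map f₁ ≫ hD.fromSpec) (Spec.map f₂ ≫ hD.fromSpec)
        (by
          rw [← Spec.map_comp_assoc, ← Spec.map_comp_assoc,
            show f₁ ≫ π' = f₂ ≫ π' from CommRingCat.hom_ext (h₁.trans h₂.symm)])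
        (by
          rw [Category.assoc, Category.assoc, ← hW.SpecMap_appLE_fromSpec s hD hDW, ← Spec.map_comp_assoc,
            ← Spec.map_comp_assoc, hf g hδ])
        (by
          rw [Category.assoc, Category.assoc, ← hV.SpecMap_appLE_fromSpec t hD hDV, ← Spec.map_comp_assoc,
            ← Spec.map_comp_assoc, hf φ fun x => Derivation.map_algebraMap δ x])
      rw [cancel_mono, Spec.map_inj] at this
      exact congrArg CommRingCat.Hom.hom this
  let q := hD.primeIdealOf ⟨r, hrD⟩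
  obtain ⟨h, hh, d, f, het⟩ := exists_etale_coords _ hspan q.asIdeal
  let H : CommRingCat.{u} := CommRingCat.of (Localization.Away h)
  let l : Γ(X, D) ⟶ H := CommRingCat.ofHom (algebraMap _ _)
  let a : W.toScheme ⟶ AS d S := AffineSpace.homOfVector (W.ι ≫ πU) fun i => W.topIso.inv (f i)
  have ha : a ≫ AS d S ↘ S = W.ι ≫ πU := AffineSpace.homOfVector_over _ _
  refine ⟨W, hW, d, a, ha, hrW, ?_⟩
  let O : X.Opens := X.basicOpen h
  let j : Spec H ⟶ (s ⁻¹ᵁ W).toScheme :=
    IsOpenImmersion.lift (s ⁻¹ᵁ W).ι (Spec.map l ≫ hD.fromSpec) (by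
      rw [Scheme.Opens.range_ι]
      rintro _ ⟨z, rfl⟩
      exact hDW (hD.range_fromSpec.le ⟨Spec.map l z, rfl⟩))
  have hj : j ≫ (s ⁻¹ᵁ W).ι = Spec.map l ≫ hD.fromSpec := IsOpenImmersion.lift_fac _ _ _
  haveI : IsOpenImmersion (Spec.map l) := IsOpenImmersion.of_isLocalization (S := Localization.Away h) h
  haveI : IsOpenImmersion (j ≫ (s ⁻¹ᵁ W).ι) := by rw [hj]; infer_instance
  haveI : IsOpenImmersion j := IsOpenImmersion.of_comp j (s ⁻¹ᵁ W).ι
  obtain ⟨z, hz⟩ : ∃ z : Spec H, (Spec.map l) z = q := by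
    have : q ∈ Set.range (PrimeSpectrum.comap (algebraMap Γ(X, D) (Localization.Away h))) := by
      rw [PrimeSpectrum.localization_away_comap_range (Localization.Away h) h]; exact hh
    exact this
  have hjz : j z = ⟨r, hrW⟩ := Subtype.ext (by
    rw [← Scheme.Opens.ι_apply, ← Scheme.Hom.comp_apply, hj, Scheme.Hom.comp_apply, hz]
    exact hD.fromSpec_primeIdealOf ⟨r, hrD⟩)
  rw [← hjz]
  let c : CommRingCat.of (MvPolynomial (ULift.{u} (Fin d)) Γ(U, V)) ⟶ H :=
    CommRingCat.ofHom (MvPolynomial.aeval fun i => algebraMap Γ(X, D) (Localization.Away h) (g.hom (f i)) :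
      MvPolynomial (ULift.{u} (Fin d)) Γ(U, V) →ₐ[Γ(U, V)] Localization.Away h).toRingHom
  have hc : Etale (Spec.map c) := (HasRingHomProperty.Spec_iff (P := @Etale)).2 het
  let e : AS d U ≅ pullback πU (AS d S ↘ S) := (AffineSpace.isPullback_map πU).flip.isoPullback
  haveI : IsOpenImmersion hV.fromSpec := inferInstance
  haveI : IsOpenImmersion (AffineSpace.map (ULift.{u} (Fin d)) hV.fromSpec) :=
    MorphismProperty.of_isPullback (P := @IsOpenImmersion) (AffineSpace.isPullback_map hV.fromSpec).flip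
      inferInstance
  suffices key : j ≫ pullback.lift ((s ⁻¹ᵁ W).ι ≫ t) ((s ∣_ W) ≫ a)
      (by rw [Category.assoc, Category.assoc, ha, morphismRestrict_ι_assoc, hst]) =
      Spec.map c ≫ (AffineSpace.SpecIso (ULift.{u} (Fin d)) Γ(U, V)).inv ≫ AffineSpace.map (ULift.{u} (Fin d)) hV.fromSpec ≫ e.hom by
    refine ⟨j.opensRange, ⟨z, rfl⟩, ?_⟩
    rw [← MorphismProperty.cancel_left_of_respectsIso @Etale j.isoOpensRange.hom,
      Scheme.Hom.isoOpensRange_hom_ι_assoc, key]
    haveI := hc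
    infer_instance
  apply pullback.hom_ext
  · rw [Category.assoc, pullback.lift_fst, reassoc_of% hj]
    simp only [Category.assoc, e, IsPullback.isoPullback_hom_fst, AffineSpace.map_over,
      AffineSpace.SpecIso_inv_over_assoc]
    rw [← hV.SpecMap_appLE_fromSpec t hD hDV, ← Spec.map_comp_assoc, ← Spec.map_comp_assoc]
    congr 2
    refine CommRingCat.hom_ext (RingHom.ext fun b => ?_)
    exact ((MvPolynomial.aeval_C _ b).trans (IsScalarTower.algebraMap_apply _ Γ(X, D) _ b)).symm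
  · rw [Category.assoc, pullback.lift_snd]
    simp only [Category.assoc, e, IsPullback.isoPullback_hom_snd]
    refine AffineSpace.hom_ext ?_ fun i => ?_
    · simp only [Category.assoc, ha, morphismRestrict_ι_assoc, AffineSpace.map_over, AffineSpace.map_over_assoc,
        AffineSpace.SpecIso_inv_over_assoc, hst]
      rw [reassoc_of% hj, ← hV.SpecMap_appLE_fromSpec_assoc t hD hDV, ← Spec.map_comp_assoc,
        ← Spec.map_comp_assoc]
      congr 2
      refine CommRingCat.hom_ext (RingHom.ext fun b => ?_)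
      exact ((MvPolynomial.aeval_C _ b).trans (IsScalarTower.algebraMap_apply _ Γ(X, D) _ b)).symm
    · rw [Scheme.Hom.comp_appTop, Scheme.Hom.comp_appTop, Scheme.Hom.comp_appTop, Scheme.Hom.comp_appTop,
        Scheme.Hom.comp_appTop]
      simp only [CommRingCat.comp_apply]
      rw [show a.appTop (AffineSpace.coord S i) = W.topIso.inv (f i) from
        AffineSpace.homOfVector_appTop_coord _ _ _]
      rw [AffineSpace.map_appTop_coord, AffineSpace.map_appTop_coord, AffineSpace.SpecIso_inv_appTop_coord]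
      rw [← CommRingCat.comp_apply (Scheme.ΓSpecIso _).inv, ← Scheme.ΓSpecIso_inv_naturality,
        CommRingCat.comp_apply]
      have hcX : c.hom (MvPolynomial.X i) = l.hom (g.hom (f i)) := MvPolynomial.aeval_X _ i
      rw [hcX]
      have hjs : j ≫ (s ∣_ W) = Spec.map (g ≫ l) ≫ hW.isoSpec.inv := by
        rw [← cancel_mono W.ι, Category.assoc, morphismRestrict_ι, reassoc_of% hj, Category.assoc,
          IsAffineOpen.isoSpec_inv_ι, Spec.map_comp, Category.assoc, hW.SpecMap_appLE_fromSpec s hD hDW]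
      rw [← CommRingCat.comp_apply (Scheme.Hom.appTop _) , ← Scheme.Hom.comp_appTop, hjs,
        Scheme.Hom.comp_appTop, CommRingCat.comp_apply, IsAffineOpen.isoSpec_inv_appTop, CommRingCat.comp_apply,
        Iso.inv_hom_id_apply, ← CommRingCat.comp_apply (Scheme.ΓSpecIso _).inv, ← Scheme.ΓSpecIso_inv_naturality,
        CommRingCat.comp_apply, CommRingCat.comp_apply]

end Groth.Agent.Boot
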