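import Groth.Agent.Boot.FibBound
import Groth.Agent.ASp.SchDesc
import Groth.Agent.ASp.Affine
import Groth.Agent.ASp.Diag
import Groth.Agent.ASp.Glue
import Groth.Agent.ASp.Sub
import Groth.Agent.ASp.SmST
/-!
An algebraic space etale and separated over a scheme is a scheme.
-/

set_option backward.isDefEq.respectTransparency false
set_option backward.isDefEq.respectTransparency.types false

universe u

open CategoryTheory CategoryTheory.Limits AlgebraicGeometry Opposite

namespace Groth.Agent.Boot

open _root_.AlgSp Groth.Agent.ASp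

variable {S : Scheme.{u}}

theorem epi_of_chart {X : Sp S} {A : Over S} {p : (yon S).obj A ⟶ X} (hpe : RepWith @Etale p)
    (hps : RepWith @Surjective p) : Epi p := by
  have := isLocallySurjective_of_repWith
    (repWith_mono (fun _ _ g (hg : Etale g) => (inferInstance : Flat g)) hpe)
    (repWith_mono (fun _ _ g (hg : Etale g) => (inferInstance : LocallyOfFinitePresentation g)) hpe) hps
  infer_instance

theorem exists_factor_mono {X Z Z' : Sp S} {A : Over S} {p : (yon S).obj A ⟶ X} (hpe : RepWith @Etale p)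
    (hps : RepWith @Surjective p) (m : Z ⟶ Z') [Mono m] (x : X ⟶ Z') (a₀ : (yon S).obj A ⟶ Z)
    (h : p ≫ x = a₀ ≫ m) : ∃ x₀ : X ⟶ Z, p ≫ x₀ = a₀ ∧ x₀ ≫ m = x := by
  have := epi_of_chart hpe hps
  obtain ⟨x₀, hx₀⟩ := exists_desc_of_epi p (IsPullback.of_hasPullback p p) a₀ ((cancel_mono m).1 (by
    rw [Category.assoc, Category.assoc, ← h, pullback.condition_assoc]))
  exact ⟨x₀, hx₀, (cancel_epi p).1 (by rw [reassoc_of% hx₀, h])⟩

theorem repWith_diagonal_of_comp_mono {Q : MorphismProperty Scheme.{u}} [Q.IsStableUnderBaseChange]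
    {F G H : Sp S} {f : F ⟶ G} (m : G ⟶ H) [Mono m]
    {x : F ⟶ H} (e : f ≫ m = x) (h : RepWith Q (pullback.diagonal x)) : RepWith Q (pullback.diagonal f) := by
  subst e
  let k : pullback f f ⟶ pullback (f ≫ m) (f ≫ m) := pullback.lift (pullback.fst f f) (pullback.snd f f)
    (by rw [pullback.condition_assoc])
  have : Mono k := ⟨fun a b e => pullback.hom_ext
    (by simpa [k] using congrArg (· ≫ pullback.fst (f ≫ m) (f ≫ m)) e)
    (by simpa [k] using congrArg (· ≫ pullback.snd (f ≫ m) (f ≫ m)) e)⟩
  refine repWith_of_isPullback (g' := 𝟙 F) (g := k) ?_ h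
  refine IsPullback.of_isLimit' ⟨by apply pullback.hom_ext <;> simp [k]⟩
    (PullbackCone.IsLimit.mk _ (fun c => c.fst) (fun c => Category.comp_id _)
      (fun c => (cancel_mono k).1 ?_) (fun c l h₁ _ => by simpa using h₁))
  rw [Category.assoc, ← c.condition]
  congr 1
  apply pullback.hom_ext <;> simp [k]

theorem repWith_diagonal_mono_comp {Q : MorphismProperty Scheme.{u}} [Q.IsStableUnderBaseChange]
    {F' F G : Sp S} (j : F' ⟶ F) [Mono j] {f : F ⟶ G}
    (h : RepWith Q (pullback.diagonal f)) : RepWith Q (pullback.diagonal (j ≫ f)) := by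
  let k : pullback (j ≫ f) (j ≫ f) ⟶ pullback f f :=
    pullback.lift (pullback.fst _ _ ≫ j) (pullback.snd _ _ ≫ j)
      (by rw [Category.assoc, Category.assoc, pullback.condition])
  refine repWith_of_isPullback (g' := j) (g := k) ?_ h
  refine IsPullback.of_isLimit' ⟨by apply pullback.hom_ext <;> simp [k]⟩
    (PullbackCone.IsLimit.mk _ (fun c => c.snd ≫ pullback.fst _ _) (fun c => ?_) (fun c => ?_)
      (fun c l _ h₂ => by rw [← h₂]; simp))
  · have e1 := congrArg (· ≫ pullback.fst f f) c.condition
    simp only [Category.assoc, k, pullback.lift_fst, pullback.diagonal_fst, Category.comp_id] at e1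
    rw [Category.assoc]
    exact e1.symm
  · have e1 := congrArg (· ≫ pullback.fst f f) c.condition
    have e2 := congrArg (· ≫ pullback.snd f f) c.condition
    simp only [Category.assoc, k, pullback.lift_fst, pullback.lift_snd, pullback.diagonal_fst,
      pullback.diagonal_snd, Category.comp_id] at e1 e2
    apply pullback.hom_ext
    · simp
    · rw [Category.assoc, pullback.diagonal_snd, Category.comp_id, ← cancel_mono j, Category.assoc,
        Category.assoc]
      exact e1.symm.trans e2

theorem repWith_diagonal_of_eq {Q : MorphismProperty Scheme.{u}} {F G : Sp S} {f g : F ⟶ G} (e : f = g)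
    (h : RepWith Q (pullback.diagonal f)) : RepWith Q (pullback.diagonal g) := by
  subst e; exact h

/-- A section is a base change of the diagonal. -/
theorem isPullback_section {F G : Sp S} (π : F ⟶ G) (σ : G ⟶ F) (h : σ ≫ π = 𝟙 G) :
    IsPullback σ σ (pullback.diagonal π) (pullback.lift (𝟙 F) (π ≫ σ) (by simp [h])) := by
  refine IsPullback.of_isLimit' ⟨by apply pullback.hom_ext <;> simp [reassoc_of% h]⟩
    (PullbackCone.IsLimit.mk _ (fun c => c.snd ≫ π) (fun c => ?_) (fun c => ?_)
      (fun c l _ h₂ => by rw [← h₂]; simp [h]))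
  all_goals
    have e1 := congrArg (· ≫ pullback.fst π π) c.condition
    have e2 := congrArg (· ≫ pullback.snd π π) c.condition
    simp only [Category.assoc, pullback.lift_fst, pullback.lift_snd, pullback.diagonal_fst,
      pullback.diagonal_snd, Category.comp_id] at e1 e2
    refine (Category.assoc _ _ _).trans ?_
  · exact e2.symm
  · exact e2.symm.trans e1

theorem etale_of_locP {X : Sp S} {A T : Over S} {p : (yon S).obj A ⟶ X} (hpe : RepWith @Etale p)
    {x : X ⟶ (yon S).obj T} (hx : LocP @Etale x) {a : A ⟶ T} (ha : (yon S).map a = p ≫ x) : Etale a.left :=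
  hx p (𝟙 _) a hpe (repWith_id _ T) (by rw [ha, Category.comp_id])

theorem exists_scheme_aux (N : ℕ) : ∀ {X : Sp S} (_ : IsAlgSpace X) {A T : Over S} [IsAffine A.left]
    [IsAffine T.left] (p : (yon S).obj A ⟶ X) (_ : RepWith @Etale p) (_ : RepWith @Surjective p)
    (x : X ⟶ (yon S).obj T) (_ : LocP @Etale x) (_ : RepWith @IsClosedImmersion (pullback.diagonal x))
    (a : A ⟶ T) (_ : (yon S).map a = p ≫ x) (_ : FibBound N a.left),
    ∃ P : Over S, Nonempty ((yon S).obj P ≅ X) := by
  induction N with
  | zero =>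
    intro X hX A T _ _ p hpe hps x _ _ a _ hN
    refine exists_scheme_of_openCover hX (ι := PEmpty) (fun i => i.elim) (fun i => i.elim)
      (fun i => i.elim) fun y => ?_
    obtain ⟨t, -⟩ := surjective_ofPt hps y
    exact (hN _ (fun _ => A.left.fromSpecResidueField t) (fun _ _ => rfl)
      (fun i j _ => Fin.ext (by omega))).elim
  | succ N ih =>
    intro X hX A T _ _ p hpe hps x hx hΔ a ha hN
    have hae : Etale a.left := etale_of_locP hpe hx ha
    -- the image of the chart
    let O : T.left.Opens := ⟨Set.range a.left, a.left.isOpenMap.isOpen_range⟩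
    let T₀ : Over S := Over.mk (O.ι ≫ T.hom)
    let z : T₀ ⟶ T := Over.homMk O.ι rfl
    have hz : RepWith @IsOpenImmersion ((yon S).map z) :=
      repWith_yon_map (inferInstanceAs (IsOpenImmersion O.ι))
    have hzm : Mono ((yon S).map z) := mono_of_repWith (P := @IsOpenImmersion)
      (fun g hg => haveI : IsOpenImmersion g := hg; inferInstance) hz
    let a₀ : A ⟶ T₀ := Over.homMk (IsOpenImmersion.lift O.ι a.left (fun y hy => ⟨⟨y, hy⟩, rfl⟩)) (by
      change IsOpenImmersion.lift O.ι a.left _ ≫ O.ι ≫ T.hom = A.hom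
      rw [IsOpenImmersion.lift_fac_assoc, Over.w])
    have haz : a₀ ≫ z = a := Over.OverMorphism.ext (IsOpenImmersion.lift_fac _ _ _)
    obtain ⟨x₀, hpx₀, hx₀z⟩ := exists_factor_mono hpe hps ((yon S).map z) x ((yon S).map a₀)
      (by rw [← ha, ← haz, Functor.map_comp])
    have hx₀ : LocP @Etale x₀ := locP_of_comp (Q := @Etale)
      (fun u v h1 h2 => MorphismProperty.of_postcomp @Etale u v h2 h1) (IsAlgSpace.yon_obj T)
      (g := (yon S).map z) (by rw [hx₀z]; exact hx)
      (locP_of_repWith (repWith_yon_map (inferInstanceAs (Etale O.ι))))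
    have hΔ₀ : RepWith @IsClosedImmersion (pullback.diagonal x₀) :=
      repWith_diagonal_of_comp_mono ((yon S).map z) hx₀z hΔ
    haveI ha₀e : Etale a₀.left := etale_of_locP hpe hx₀ hpx₀.symm
    haveI ha₀s : Surjective a₀.left := ⟨fun t => by
      obtain ⟨w, hw⟩ := t.2
      exact ⟨w, Subtype.ext (by
        change (a₀.left ≫ O.ι) w = t.1
        rw [← hw, ← haz]
        rfl)⟩⟩
    -- the base change to the chart
    obtain ⟨XA, q, π, hXA⟩ : ∃ (XA : Sp S) (q : XA ⟶ X) (π : XA ⟶ (yon S).obj A),
        IsPullback q π x₀ ((yon S).map a₀) := ⟨_, _, _, IsPullback.of_hasPullback _ _⟩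
    have hXAa : IsAlgSpace XA :=
      isAlgSpace_of_isPullback (IsAlgSpace.yon_obj T₀).diag hX (IsAlgSpace.yon_obj A) hXA
    have hπ : LocP @Etale π := locP_of_isPullback hXA.flip hX (IsAlgSpace.yon_obj T₀) (IsAlgSpace.yon_obj A) hx₀
    have hπΔ : RepWith @IsClosedImmersion (pullback.diagonal π) := by
      obtain ⟨s, hs, -⟩ := isPullback_diagonal_baseChange hXA
      exact repWith_of_isPullback hs hΔ₀
    obtain ⟨σ, hσq, hσπ⟩ : ∃ σ : (yon S).obj A ⟶ XA, σ ≫ q = p ∧ σ ≫ π = 𝟙 _ :=
      ⟨hXA.lift p (𝟙 _) (by rw [hpx₀, Category.id_comp]), hXA.lift_fst _ _ _, hXA.lift_snd _ _ _⟩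
    have hσc : RepWith @IsClosedImmersion σ := repWith_of_isPullback (isPullback_section π σ hσπ) hπΔ
    haveI : Mono σ := ⟨fun f g e => by
      simpa [hσπ] using congrArg (· ≫ π) e⟩
    have hσo : RepWith @IsOpenImmersion σ := repWith_isOpenImmersion_of_mono_etale
      (IsAlgSpace.yon_obj A) hXAa σ (locP_of_comp (Q := @Etale)
        (fun u v h1 h2 => MorphismProperty.of_postcomp @Etale u v h2 h1) (IsAlgSpace.yon_obj A)
        (g := π) (by rw [hσπ]; exact locP_id_of_isAlgSpace (IsAlgSpace.yon_obj A)) hπ)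
    -- the chart of the base change
    let P : Over S := pullback a₀ a₀
    have sqP : IsPullback ((yon S).map (pullback.fst a₀ a₀)) ((yon S).map (pullback.snd a₀ a₀))
        ((yon S).map a₀) ((yon S).map a₀) := isPullback_yon_map (IsPullback.of_hasPullback a₀ a₀)
    obtain ⟨pA, hpAq, hpAπ⟩ : ∃ pA : (yon S).obj P ⟶ XA, pA ≫ q = (yon S).map (pullback.fst a₀ a₀) ≫ p ∧
        pA ≫ π = (yon S).map (pullback.snd a₀ a₀) :=
      ⟨hXA.lift _ _ (by rw [Category.assoc, hpx₀, sqP.w]), hXA.lift_fst _ _ _, hXA.lift_snd _ _ _⟩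
    have sqA : IsPullback ((yon S).map (pullback.fst a₀ a₀)) pA p q := by
      refine IsPullback.of_bot (h₃₁ := (yon S).map a₀) (v₂₁ := π) (v₂₂ := x₀) ?_ hpAq.symm hXA
      rw [hpAπ, hpx₀]
      exact sqP
    have hpAe : RepWith @Etale pA := repWith_of_isPullback sqA hpe
    have hpAs : RepWith @Surjective pA := repWith_of_isPullback sqA hps
    obtain ⟨D, dA, d, sqD⟩ : ∃ (D : Over S) (dA : (yon S).obj D ⟶ (yon S).obj A) (d : D ⟶ P),
        IsPullback dA ((yon S).map d) σ pA := ⟨_, _, _, hσc.1.isPullback pA⟩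
    haveI : IsClosedImmersion d.left := hσc.2 _ _ _ sqD
    haveI : IsOpenImmersion d.left := hσo.2 _ _ _ sqD
    -- the complement
    let O' : P.left.Opens := ⟨(Set.range d.left)ᶜ, d.left.isClosedEmbedding.isClosed_range.isOpen_compl⟩
    haveI : IsAffine P.left := by
      have hk : IsKernelPair (a₀.left ≫ z.left) (pullback.fst a₀ a₀).left (pullback.snd a₀ a₀).left :=
        IsKernelPair.comp_of_mono (isPullback_left (IsPullback.of_hasPullback a₀ a₀))
      exact IsAffine.of_isIso hk.isoPullback.hom
    haveI : IsClosedImmersion O'.ι := IsClosedImmersion.of_isPreimmersion O'.ι (by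
      rw [Scheme.Opens.range_ι]
      exact d.left.isOpenEmbedding.isOpen_range.isClosed_compl)
    let P' : Over S := Over.mk (O'.ι ≫ P.hom)
    let i : P' ⟶ P := Over.homMk O'.ι rfl
    haveI : IsAffine P'.left := isAffine_of_isAffineHom O'.ι
    let Ω : Set (Points XA) := Points.ofPt pA '' (O' : Set ↥P.left)
    have hΩ : IsOpen Ω := isOpenMap_ofPt_of_etale hpAe _ O'.isOpen
    have hj := repWith_subι XA Ω hΩ
    have hX' := isAlgSpace_subSp hXAa hΩ
    obtain ⟨p', hp'⟩ := exists_lift_subι XA Ω (U := P') ((yon S).map i ≫ pA) (fun s => by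
      rw [ofPt_yon_map_comp]
      exact ⟨_, s.2, rfl⟩)
    have hp'e : RepWith @Etale p' := repWith_of_locP hX' (hX'.representable_from_yon _)
      (locP_of_comp (Q := @Etale) (fun u v h1 h2 => MorphismProperty.of_postcomp @Etale u v h2 h1) hXAa
        (g := subι XA Ω) (by
          rw [hp']
          exact locP_of_repWith (repWith_comp (repWith_yon_map (inferInstanceAs (Etale O'.ι))) hpAe))
        (locP_of_repWith (repWith_mono (fun _ _ g (hg : IsOpenImmersion g) => (inferInstance : Etale g)) hj)))
    have hinj : Function.Injective (Points.map (subι XA Ω)) := injective_map_of_repWith (P := @IsOpenImmersion)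
      (fun g hg => haveI : IsOpenImmersion g := hg; g.isOpenEmbedding.injective) hj
    have hp's : RepWith @Surjective p' := by
      rw [repWith_surjective_iff hp'e.1]
      intro y
      obtain ⟨t, ht, hty⟩ : Points.map (subι XA Ω) y ∈ Ω := (range_map_subι XA Ω).le ⟨y, rfl⟩
      refine ⟨Points.schemeHomeo P' ⟨t, ht⟩, hinj ?_⟩
      rw [← hty, ← Points.map_comp, hp', Points.map_comp, Points.map_yon_map_apply, ofPt_comp_eq_map]
      rfl
    let a' : P' ⟶ A := i ≫ pullback.snd a₀ a₀
    have hjm : Mono (subι XA Ω) := inferInstance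
    have hbound : FibBound N a'.left := by
      intro K _ l hl hlinj
      let η : Spec (CommRingCat.of K) ⟶ A.left := l 0 ≫ a'.left
      have hη : ∀ j, l j ≫ a'.left = η := fun j => hl j 0
      let l₁ : Fin (N + 1) → (Spec (CommRingCat.of K) ⟶ A.left) := fun j =>
        l j ≫ i.left ≫ (pullback.fst a₀ a₀).left
      have hsl := isPullback_left (IsPullback.of_hasPullback a₀ a₀)
      have h₁ : ∀ j, l₁ j ≫ a₀.left = η ≫ a₀.left := fun j => by
        rw [← hη j]
        simp only [l₁, a', Category.assoc, Over.comp_left, hsl.w]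
      refine hN K (Fin.cons η l₁) (fun j k => ?_) ?_
      · suffices h : ∀ j, (Fin.cons η l₁ : Fin (N + 2) → _) j ≫ a.left = η ≫ a.left by rw [h, h]
        intro j
        rw [← haz, Over.comp_left]
        induction j using Fin.cases with
        | zero => rfl
        | succ j => rw [Fin.cons_succ, reassoc_of% (h₁ j)]
      · refine Fin.cons_injective_iff.2 ⟨?_, fun j k e => hlinj ?_⟩
        · rintro ⟨j, hj'⟩
          let Kₛ : Over S := Over.mk (η ≫ A.hom)
          let η' : Kₛ ⟶ A := Over.homMk η rfl
          let lj : Kₛ ⟶ P := Over.homMk (l j ≫ i.left) (by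
            change (l j ≫ i.left) ≫ P.hom = η ≫ A.hom
            rw [← hη j]
            simp only [a', Over.comp_left, Category.assoc, Over.w])
          have hfac : (yon S).map η' ≫ σ = (yon S).map lj ≫ pA := by
            refine hXA.hom_ext ?_ ?_
            · rw [Category.assoc, hσq, Category.assoc, hpAq, ← Functor.map_comp_assoc,
                show lj ≫ pullback.fst a₀ a₀ = η' from Over.OverMorphism.ext (by
                  change (l j ≫ i.left) ≫ _ = η
                  rw [Category.assoc]; exact hj')]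
            · rw [Category.assoc, hσπ, Category.assoc, hpAπ, ← Functor.map_comp, Category.comp_id,
                show lj ≫ pullback.snd a₀ a₀ = η' from Over.OverMorphism.ext (by
                  change (l j ≫ i.left) ≫ _ = η
                  rw [Category.assoc, ← hη j]; rfl)]
          obtain ⟨m, hm⟩ := (yon S).map_surjective (sqD.lift _ _ hfac)
          have hmd : m ≫ d = lj := (yon S).map_injective (by rw [Functor.map_comp, hm, sqD.lift_snd])
          let pt : ↥(Spec (CommRingCat.of K)) := IsLocalRing.closedPoint K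
          have h2 : (l j ≫ i.left) pt ∈ O' := ((l j) pt).2
          refine h2 ⟨m.left pt, ?_⟩
          rw [← Scheme.Hom.comp_apply, ← Over.comp_left, hmd]
          rfl
        · refine (cancel_mono i.left).1 (hsl.hom_ext ?_ ?_)
          · simpa only [l₁, Category.assoc] using e
          · simp only [Category.assoc]
            have := (hη j).trans (hη k).symm
            simpa only [a', Over.comp_left] using this
    obtain ⟨V', ⟨φ⟩⟩ := ih hX' p' hp'e hp's (subι XA Ω ≫ π)
      (locP_comp hXAa (locP_of_repWith (repWith_mono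
        (fun _ _ g (hg : IsOpenImmersion g) => (inferInstance : Etale g)) hj)) hπ)
      (repWith_diagonal_mono_comp _ hπΔ) a'
      (by simp only [a', Functor.map_comp, reassoc_of% hp', hpAπ]) hbound
    -- the base change is a scheme
    obtain ⟨V, ⟨ψ⟩⟩ := exists_scheme_of_openCover hXAa (ι := ULift.{u} Bool)
      (fun b => match b.down with | true => A | false => V')
      (fun b => match b with | ⟨true⟩ => σ | ⟨false⟩ => φ.hom ≫ subι XA Ω)
      (fun b => match b with
        | ⟨true⟩ => hσo
        | ⟨false⟩ => repWith_comp (repWith_of_isIso φ.hom) hj) (fun y => by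
        obtain ⟨t, rfl⟩ := surjective_ofPt hpAs y
        by_cases ht : t ∈ Set.range d.left
        · obtain ⟨w, rfl⟩ := ht
          refine ⟨⟨true⟩, Points.map dA (Points.schemeHomeo D w), ?_⟩
          change Points.map σ _ = _
          rw [← Points.map_comp, sqD.w, Points.map_comp, Points.map_yon_map_apply]
          rw [ofPt_comp_eq_map pA]
          rfl
        · obtain ⟨y', hy'⟩ := (range_map_subι XA Ω).ge ⟨t, ht, rfl⟩
          exact ⟨⟨false⟩, Points.map φ.inv y', by
            change Points.map (φ.hom ≫ subι XA Ω) _ = _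
            rw [← Points.map_comp, φ.inv_hom_id_assoc]; exact hy'⟩)
    obtain ⟨v, hv⟩ := (yon S).map_surjective (ψ.hom ≫ π)
    have sqV : IsPullback (ψ.hom ≫ q) ((yon S).map v) x₀ ((yon S).map a₀) := by
      rw [hv]
      exact IsPullback.of_iso hXA ψ.symm (Iso.refl _) (Iso.refl _) (Iso.refl _) (by simp) (by simp) (by simp) (by simp)
    haveI hve : Etale v.left :=
      etale_of_locP (repWith_of_isIso ψ.hom) hπ hv
    haveI : IsSeparated v.left := by
      rw [isSeparated_iff]
      exact (repWith_diagonal_yon_map_iff _ _).1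
        (repWith_diagonal_of_eq hv.symm (repWith_diagonal_mono_comp _ hπΔ))
    haveI : LocallyQuasiFinite v.left := IsEtLocal.etale_le (P := @LocallyQuasiFinite) _ hve
    exact exists_scheme_of_lqf hX x₀ a₀ v _ sqV

/-- An algebraic space etale and separated over a scheme is a scheme. -/
theorem exists_scheme_of_sep_etale {X : Sp S} (hX : IsAlgSpace X) {T : Over S} (x : X ⟶ (yon S).obj T)
    (hx : LocP @Etale x) (hΔ : RepWith @IsClosedImmersion (pullback.diagonal x)) :
    ∃ P : Over S, Nonempty ((yon S).obj P ≅ X) := by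
  obtain ⟨A, p, hpe, hps⟩ := hX.atlas
  obtain ⟨a, ha⟩ := (yon S).map_surjective (p ≫ x)
  have key : ∀ t : ↥A.left, ∃ (P : Over S) (f : (yon S).obj P ⟶ X),
      RepWith @IsOpenImmersion f ∧ Points.ofPt p t ∈ Set.range (Points.map f) := by
    intro t
    obtain ⟨U, hU, hxU, -⟩ := exists_isAffineOpen_mem_and_subset (x := a.left t) (U := (⊤ : T.left.Opens)) (by simp)
    obtain ⟨E, hE, htE, hEU⟩ := exists_isAffineOpen_mem_and_subset (x := t) (U := a.left ⁻¹ᵁ U) hxU
    let Ω : Set (Points X) := Points.ofPt p '' E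
    have hΩ : IsOpen Ω := isOpenMap_ofPt_of_etale hpe _ E.isOpen
    have hj := repWith_subι X Ω hΩ
    have hX' := isAlgSpace_subSp hX hΩ
    let AE : Over S := Over.mk (E.ι ≫ A.hom)
    let iE : AE ⟶ A := Over.homMk E.ι rfl
    let TU : Over S := Over.mk (U.ι ≫ T.hom)
    let u : TU ⟶ T := Over.homMk U.ι rfl
    haveI : IsAffine AE.left := hE
    haveI : IsAffine TU.left := hU
    have hum : Mono ((yon S).map u) := mono_of_repWith (P := @IsOpenImmersion)
      (fun g hg => haveI : IsOpenImmersion g := hg; inferInstance)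
      (repWith_yon_map (inferInstanceAs (IsOpenImmersion U.ι)))
    obtain ⟨p', hp'⟩ := exists_lift_subι X Ω (U := AE) ((yon S).map iE ≫ p) (fun s => by
      rw [ofPt_yon_map_comp]
      exact ⟨_, s.2, rfl⟩)
    have hp'e : RepWith @Etale p' := repWith_of_locP hX' (hX'.representable_from_yon _)
      (locP_of_comp (Q := @Etale) (fun u v h1 h2 => MorphismProperty.of_postcomp @Etale u v h2 h1) hX
        (g := subι X Ω) (by
          rw [hp']
          exact locP_of_repWith (repWith_comp (repWith_yon_map (inferInstanceAs (Etale E.ι))) hpe))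
        (locP_of_repWith (repWith_mono (fun _ _ g (hg : IsOpenImmersion g) => (inferInstance : Etale g)) hj)))
    have hinj : Function.Injective (Points.map (subι X Ω)) := injective_map_of_repWith (P := @IsOpenImmersion)
      (fun g hg => haveI : IsOpenImmersion g := hg; g.isOpenEmbedding.injective) hj
    have hp's : RepWith @Surjective p' := by
      rw [repWith_surjective_iff hp'e.1]
      intro y
      obtain ⟨t, ht, hty⟩ : Points.map (subι X Ω) y ∈ Ω := (range_map_subι X Ω).le ⟨y, rfl⟩
      refine ⟨Points.schemeHomeo AE ⟨t, ht⟩, hinj ?_⟩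
      rw [← hty, ← Points.map_comp, hp', Points.map_comp, Points.map_yon_map_apply, ofPt_comp_eq_map]
      rfl
    let a' : AE ⟶ TU := Over.homMk (a.left.resLE U E hEU) (by
      change a.left.resLE U E hEU ≫ U.ι ≫ T.hom = E.ι ≫ A.hom
      rw [Scheme.Hom.resLE_comp_ι_assoc, Over.w])
    obtain ⟨x', hpx', hx'u⟩ := exists_factor_mono hp'e hp's ((yon S).map u) (subι X Ω ≫ x)
      ((yon S).map a') (by
        rw [reassoc_of% hp', ← ha, ← Functor.map_comp, ← Functor.map_comp]
        exact congrArg (yon S).map (Over.OverMorphism.ext (Scheme.Hom.resLE_comp_ι _ _).symm))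
    have hx' : LocP @Etale x' := locP_of_comp (Q := @Etale)
      (fun u v h1 h2 => MorphismProperty.of_postcomp @Etale u v h2 h1) (IsAlgSpace.yon_obj T)
      (g := (yon S).map u) (by
        rw [hx'u]
        exact locP_comp hX (locP_of_repWith (repWith_mono
          (fun _ _ g (hg : IsOpenImmersion g) => (inferInstance : Etale g)) hj)) hx)
      (locP_of_repWith (repWith_yon_map (inferInstanceAs (Etale U.ι))))
    have hΔ' : RepWith @IsClosedImmersion (pullback.diagonal x') :=
      repWith_diagonal_of_comp_mono ((yon S).map u) hx'u (repWith_diagonal_mono_comp _ hΔ)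
    haveI : Etale a'.left := etale_of_locP hp'e hx' hpx'.symm
    obtain ⟨N, hN⟩ := exists_fibBound a'.left
    obtain ⟨P, ⟨e⟩⟩ := exists_scheme_aux N hX' p' hp'e hp's x' hx' hΔ' a' hpx'.symm hN
    refine ⟨P, e.hom ≫ subι X Ω, repWith_comp (repWith_of_isIso e.hom) hj, ?_⟩
    obtain ⟨y, hy⟩ := (range_map_subι X Ω).ge ⟨t, htE, rfl⟩
    exact ⟨Points.map e.inv y, by rw [← Points.map_comp, e.inv_hom_id_assoc]; exact hy⟩
  choose P f hf hfp using key
  exact exists_scheme_of_openCover hX P f hf fun y => by
    obtain ⟨t, rfl⟩ := surjective_ofPt hps y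
    exact ⟨t, hfp t⟩

end Groth.Agent.Boot
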