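import Groth.Agent.Boot.Atlas
import Groth.Agent.Boot.SepEtale
import Groth.Agent.ASp.Quot
/-!
A sheaf with a smooth surjective map from a scheme, representable by algebraic spaces, is an algebraic space.
-/

set_option autoImplicit false
set_option backward.isDefEq.respectTransparency false
set_option backward.isDefEq.respectTransparency.types false

universe u

open CategoryTheory CategoryTheory.Limits AlgebraicGeometry Opposite

namespace Groth.Agent.Boot

open _root_.AlgSp Groth.Agent.ASp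

variable {S : Scheme.{u}}

theorem surjective_points_of_map {C T : Over S} (b : C ⟶ T) (h : Function.Surjective (Points.map ((yon S).map b))) :
    Surjective b.left := ⟨fun w => by
  obtain ⟨z, hz⟩ := h (Points.schemeHomeo T w)
  obtain ⟨v, rfl⟩ := (Points.schemeHomeo C).surjective z
  rw [Points.map_yon_map_apply] at hz
  exact ⟨v, (Points.schemeHomeo T).injective hz⟩⟩

/-- A smooth chart can be refined by a separated etale one. -/
theorem exists_etale_chart {F : Sp S} {U : Over S} {p : (yon S).obj U ⟶ F} (hp : IsSmoothChart p) :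
    ∃ (Z₀ : Over S) (q : Z₀ ⟶ U), IsSeparated Z₀.hom ∧
      Function.Surjective (Points.map ((yon S).map q ≫ p)) ∧ ∀ ⦃T : Over S⦄ (g : (yon S).obj T ⟶ F) ⦃P : Sp S⦄ (fst : P ⟶ (yon S).obj Z₀)
        (snd : P ⟶ (yon S).obj T), IsPullback fst snd ((yon S).map q ≫ p) g →
        IsAlgSpace P ∧ LocP @Etale snd ∧ Function.Surjective (Points.map snd) := by
  obtain ⟨R, fR, sR, sqR⟩ : ∃ (R : Sp S) (fR : R ⟶ (yon S).obj U) (sR : R ⟶ (yon S).obj U),
      IsPullback fR sR p p := ⟨_, _, _, IsPullback.of_hasPullback p p⟩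
  obtain ⟨hRa, hsR, -⟩ := hp p fR sR sqR
  obtain ⟨R', c, hce, hcs⟩ := hRa.atlas
  obtain ⟨s, hs⟩ := (yon S).map_surjective (c ≫ fR)
  obtain ⟨t, ht⟩ := (yon S).map_surjective (c ≫ sR)
  obtain ⟨Z₀, q, hZsep, hC₀, hsurj⟩ := exists_etale_atlas hp sqR c hce hcs s t hs ht
  -- the base change of the atlas to `U`
  obtain ⟨PU, fPU, qU, sqQ⟩ : ∃ (PU : Sp S) (fPU : PU ⟶ (yon S).obj Z₀) (qU : PU ⟶ R),
      IsPullback fPU qU ((yon S).map q) fR := ⟨_, _, _, IsPullback.of_hasPullback _ _⟩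
  have hPUa : IsAlgSpace PU :=
    isAlgSpace_of_isPullback (IsAlgSpace.yon_obj U).diag (IsAlgSpace.yon_obj Z₀) hRa sqQ
  have sqPU : IsPullback fPU (qU ≫ sR) ((yon S).map q ≫ p) p := sqQ.flip.paste_horiz sqR.flip |>.flip
  have hPUe : LocP @Etale (qU ≫ sR) := by
    let C₀ : Over S := pullback q s
    have hyC := isPullback_yon_map (IsPullback.of_hasPullback q s)
    obtain ⟨cU, hcUf, hcUq⟩ : ∃ cU : (yon S).obj C₀ ⟶ PU, cU ≫ fPU = (yon S).map (pullback.fst q s) ∧
        cU ≫ qU = (yon S).map (pullback.snd q s) ≫ c :=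
      ⟨sqQ.lift _ _ (by rw [Category.assoc, ← hs, hyC.w]), sqQ.lift_fst _ _ _, sqQ.lift_snd _ _ _⟩
    have sqc : IsPullback ((yon S).map (pullback.snd q s)) cU c qU := by
      refine IsPullback.of_bot (h₃₁ := (yon S).map q) (v₂₁ := fPU) (v₂₂ := fR) ?_ hcUq.symm sqQ.flip
      rw [hcUf, ← hs]
      exact hyC.flip
    exact locP_of_chart (repWith_of_isPullback sqc hce) (repWith_of_isPullback sqc hcs) (repWith_id _ U)
      (h := pullback.snd q s ≫ t) (by rw [reassoc_of% hcUq, ← ht, Category.comp_id, Functor.map_comp]) hC₀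
  -- the atlas is etale
  have hA : ∀ ⦃T : Over S⦄ (g : (yon S).obj T ⟶ F) ⦃P : Sp S⦄ (fst : P ⟶ (yon S).obj Z₀)
      (snd : P ⟶ (yon S).obj T), IsPullback fst snd ((yon S).map q ≫ p) g →
      IsAlgSpace P ∧ LocP @Etale snd ∧ Function.Surjective (Points.map snd) := by
    intro T g P fst snd sq
    obtain ⟨Q, fQ, sQ, sqp⟩ : ∃ (Q : Sp S) (fQ : Q ⟶ (yon S).obj U) (sQ : Q ⟶ (yon S).obj T),
        IsPullback fQ sQ p g := ⟨_, _, _, IsPullback.of_hasPullback _ _⟩
    obtain ⟨hQa, hsQ, hsQs⟩ := hp g fQ sQ sqp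
    obtain ⟨mid, hmf, hms⟩ : ∃ mid : P ⟶ Q, mid ≫ fQ = fst ≫ (yon S).map q ∧ mid ≫ sQ = snd :=
      ⟨sqp.lift _ _ (by rw [Category.assoc, sq.w]), sqp.lift_fst _ _ _, sqp.lift_snd _ _ _⟩
    have sqm : IsPullback fst mid ((yon S).map q) fQ :=
      (IsPullback.of_right (by rw [hms]; exact sq.flip) hmf sqp.flip).flip
    have hPa : IsAlgSpace P :=
      isAlgSpace_of_isPullback (IsAlgSpace.yon_obj U).diag (IsAlgSpace.yon_obj Z₀) hQa sqm
    have hs' : Function.Surjective (Points.map snd) := fun y => by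
      obtain ⟨z, hz⟩ := hsurj (Points.map g y)
      obtain ⟨w, -, hw⟩ := points_exists_of_isPullback sq z y hz
      exact ⟨w, hw⟩
    refine ⟨hPa, ?_, hs'⟩
    obtain ⟨C', a', ha'e, ha's⟩ := hPa.atlas
    obtain ⟨b, hb⟩ := (yon S).map_surjective (a' ≫ snd)
    obtain ⟨TC, cQ, hcQe, hcQs⟩ := hQa.atlas
    obtain ⟨τ, hτ⟩ := (yon S).map_surjective (cQ ≫ sQ)
    obtain ⟨ξ, hξ⟩ := (yon S).map_surjective (cQ ≫ fQ)
    haveI : Smooth τ.left := hsQ cQ (𝟙 _) τ hcQe (repWith_id _ T) (by rw [hτ, Category.comp_id])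
    haveI : Surjective τ.left := surjective_points_of_map τ fun y => by
      obtain ⟨z, rfl⟩ := hsQs y
      obtain ⟨w, rfl⟩ := surjective_map_of_repWith hcQs z
      exact ⟨w, by rw [hτ, Points.map_comp]⟩
    have hξp : (yon S).map ξ ≫ p = (yon S).map τ ≫ g := by
      rw [hξ, hτ, Category.assoc, Category.assoc, sqp.w]
    obtain ⟨P', fP', sP', sqP'⟩ : ∃ (P' : Sp S) (fP' : P' ⟶ PU) (sP' : P' ⟶ (yon S).obj TC),
        IsPullback fP' sP' (qU ≫ sR) ((yon S).map ξ) := ⟨_, _, _, IsPullback.of_hasPullback _ _⟩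
    have hP'a : IsAlgSpace P' :=
      isAlgSpace_of_isPullback (IsAlgSpace.yon_obj U).diag hPUa (IsAlgSpace.yon_obj TC) sqP'
    have hP'e : LocP @Etale sP' :=
      locP_of_isPullback sqP'.flip hPUa (IsAlgSpace.yon_obj U) (IsAlgSpace.yon_obj TC) hPUe
    have sqbig : IsPullback (fP' ≫ fPU) sP' ((yon S).map q ≫ p) ((yon S).map τ ≫ g) := by
      rw [← hξp]
      exact sqP'.paste_horiz sqPU
    obtain ⟨l, hlf, hls⟩ : ∃ l : P' ⟶ P, l ≫ fst = fP' ≫ fPU ∧ l ≫ snd = sP' ≫ (yon S).map τ :=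
      ⟨sq.lift _ _ (by rw [sqbig.w, Category.assoc]), sq.lift_fst _ _ _, sq.lift_snd _ _ _⟩
    have sql : IsPullback l sP' snd ((yon S).map τ) := by
      refine IsPullback.of_right ?_ hls sq
      rw [hlf]
      exact sqbig
    let C'' : Over S := pullback b τ
    have hyC := isPullback_yon_map (IsPullback.of_hasPullback b τ)
    obtain ⟨a'', ha''l, ha''s⟩ : ∃ a'' : (yon S).obj C'' ⟶ P', a'' ≫ l = (yon S).map (pullback.fst b τ) ≫ a' ∧
        a'' ≫ sP' = (yon S).map (pullback.snd b τ) :=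
      ⟨sql.lift _ _ (by rw [Category.assoc, ← hb, hyC.w]), sql.lift_fst _ _ _, sql.lift_snd _ _ _⟩
    have sqa : IsPullback ((yon S).map (pullback.fst b τ)) a'' a' l := by
      refine IsPullback.of_bot (h₃₁ := (yon S).map τ) (v₂₁ := sP') (v₂₂ := snd) ?_ ha''l.symm sql
      rw [ha''s, ← hb]
      exact hyC
    haveI hpz : Etale (pullback.snd b τ).left :=
      hP'e a'' (𝟙 _) _ (repWith_of_isPullback sqa ha'e) (repWith_id _ TC) (by rw [ha''s, Category.comp_id])
    have hsl := isPullback_left (IsPullback.of_hasPullback b τ)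
    haveI : Surjective (pullback.fst b τ).left := MorphismProperty.of_isPullback hsl.flip ‹Surjective τ.left›
    haveI hbe : Etale b.left := etale_of_forall_etAt _ fun x => by
      obtain ⟨w, rfl⟩ := (pullback.fst b τ).left.surjective x
      refine (etAt_iff_of_isPullback hsl w).1 ⟨⊤, trivial, ?_⟩
      infer_instance
    exact locP_of_chart ha'e ha's (repWith_id _ T) (h := b) (by rw [hb, Category.comp_id]) hbe
  exact ⟨Z₀, q, hZsep, hsurj, hA⟩

/-- Maps from schemes lift to a smooth chart after an etale covering. -/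
theorem exists_etale_lift {F : Sp S} {U : Over S} {p : (yon S).obj U ⟶ F} (hp : IsSmoothChart p) {T : Over S}
    (g : (yon S).obj T ⟶ F) : ∃ (C : Over S) (b : C ⟶ T) (a : C ⟶ U),
      Etale b.left ∧ Surjective b.left ∧ (yon S).map a ≫ p = (yon S).map b ≫ g := by
  obtain ⟨Z₀, q, -, -, hA⟩ := exists_etale_chart hp
  obtain ⟨P, fst, snd, sq⟩ : ∃ (P : Sp S) (fst : P ⟶ (yon S).obj Z₀) (snd : P ⟶ (yon S).obj T),
      IsPullback fst snd ((yon S).map q ≫ p) g := ⟨_, _, _, IsPullback.of_hasPullback _ _⟩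
  obtain ⟨hPa, hPe, hPs⟩ := hA g fst snd sq
  obtain ⟨C, k, hke, hks⟩ := hPa.atlas
  obtain ⟨b, hb⟩ := (yon S).map_surjective (k ≫ snd)
  obtain ⟨a, ha⟩ := (yon S).map_surjective (k ≫ fst)
  refine ⟨C, b, a ≫ q, etale_of_locP hke hPe hb, surjective_points_of_map b fun y => ?_,
    by rw [Functor.map_comp, Category.assoc, ha, hb, Category.assoc, Category.assoc, sq.w]⟩
  obtain ⟨w, rfl⟩ := hPs y
  obtain ⟨v, rfl⟩ := surjective_map_of_repWith hks w
  exact ⟨v, by rw [hb, Points.map_comp]⟩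

theorem isAlgSpace_of_smoothChart {F : Sp S} {U : Over S} {p : (yon S).obj U ⟶ F} (hp : IsSmoothChart p) :
    IsAlgSpace F := by
  obtain ⟨Z₀, q, hZsep, hsurj, hA⟩ := exists_etale_chart hp
  -- the relation on the atlas is a scheme
  obtain ⟨RV, fV, sV, sqV⟩ : ∃ (RV : Sp S) (fV : RV ⟶ (yon S).obj Z₀) (sV : RV ⟶ (yon S).obj Z₀),
      IsPullback fV sV ((yon S).map q ≫ p) ((yon S).map q ≫ p) := ⟨_, _, _, IsPullback.of_hasPullback _ _⟩
  obtain ⟨hRVa, hsV, -⟩ := hA _ fV sV sqV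
  let one : Over S := Over.mk (𝟙 S)
  let eZ : Z₀ ⟶ one := Over.homMk Z₀.hom (Category.comp_id _)
  let Qo : Over S := pullback eZ eZ
  let q₁ : Qo ⟶ Z₀ := pullback.fst eZ eZ
  let q₂ : Qo ⟶ Z₀ := pullback.snd eZ eZ
  have hQo := isPullback_yon_map (IsPullback.of_hasPullback eZ eZ)
  obtain ⟨zV, hzV₁, hzV₂⟩ : ∃ zV : RV ⟶ (yon S).obj Qo, zV ≫ (yon S).map q₁ = fV ∧ zV ≫ (yon S).map q₂ = sV :=
    ⟨hQo.lift fV sV (hom_ext_terminal _ _), hQo.lift_fst _ _ _, hQo.lift_snd _ _ _⟩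
  have hzVm : Mono zV := ⟨fun a b e => sqV.hom_ext (by rw [← hzV₁, reassoc_of% e]) (by rw [← hzV₂, reassoc_of% e])⟩
  have hq₂sep : IsSeparated q₂.left := by
    haveI : IsSeparated eZ.left := hZsep
    exact MorphismProperty.of_isPullback (isPullback_left (IsPullback.of_hasPullback eZ eZ)) ‹IsSeparated eZ.left›
  obtain ⟨RS, ⟨φ⟩⟩ := exists_scheme_of_sep_etale hRVa sV hsV
    (repWith_diagonal_of_eq hzV₂ (repWith_diagonal_mono_comp zV
      ((repWith_diagonal_yon_map_iff _ _).2 ((isSeparated_iff _).1 hq₂sep))))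
  obtain ⟨r₁, hr₁⟩ := (yon S).map_surjective (φ.hom ≫ fV)
  obtain ⟨r₂, hr₂⟩ := (yon S).map_surjective (φ.hom ≫ sV)
  obtain ⟨z, hz⟩ := (yon S).map_surjective (φ.hom ≫ zV)
  have hzq₁ : z ≫ q₁ = r₁ := (yon S).map_injective (by rw [Functor.map_comp, hz, Category.assoc, hzV₁, hr₁])
  have hzq₂ : z ≫ q₂ = r₂ := (yon S).map_injective (by rw [Functor.map_comp, hz, Category.assoc, hzV₂, hr₂])
  have sqRS : IsPullback ((yon S).map r₁) ((yon S).map r₂) ((yon S).map q ≫ p) ((yon S).map q ≫ p) := by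
    rw [hr₁, hr₂]
    exact IsPullback.of_iso sqV φ.symm (Iso.refl _) (Iso.refl _) (Iso.refl _) (by simp) (by simp) (by simp) (by simp)
  haveI hr₂e : Etale r₂.left := etale_of_locP (repWith_of_isIso φ.hom) hsV hr₂
  haveI : LocallyOfFiniteType z.left := by
    haveI : LocallyOfFiniteType (z.left ≫ q₂.left) := by rw [← Over.comp_left, hzq₂]; infer_instance
    exact locallyOfFiniteType_of_comp z.left q₂.left
  have sqdiag : IsPullback ((yon S).map r₁ ≫ (yon S).map q ≫ p) ((yon S).map z) (Limits.diag F)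
      (prod.lift ((yon S).map q₁ ≫ (yon S).map q ≫ p) ((yon S).map q₂ ≫ (yon S).map q ≫ p)) :=
    isPullback_diag_kernelPair _ sqRS _ (by rw [← Functor.map_comp, hzq₁]) (by rw [← Functor.map_comp, hzq₂])
      fun a b h₁ h₂ => hQo.hom_ext h₁ h₂
  -- lifting maps from schemes after an etale covering
  have hlift : ∀ {T : Over S} (g : (yon S).obj T ⟶ F), ∃ (C : Over S) (b : C ⟶ T) (a : C ⟶ Z₀),
      Etale b.left ∧ Surjective b.left ∧ (yon S).map a ≫ (yon S).map q ≫ p = (yon S).map b ≫ g := by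
    intro T g
    obtain ⟨P, fst, snd, sq⟩ : ∃ (P : Sp S) (fst : P ⟶ (yon S).obj Z₀) (snd : P ⟶ (yon S).obj T),
        IsPullback fst snd ((yon S).map q ≫ p) g := ⟨_, _, _, IsPullback.of_hasPullback _ _⟩
    obtain ⟨hPa, hPe, hPs⟩ := hA g fst snd sq
    obtain ⟨C, k, hke, hks⟩ := hPa.atlas
    obtain ⟨b, hb⟩ := (yon S).map_surjective (k ≫ snd)
    obtain ⟨a, ha⟩ := (yon S).map_surjective (k ≫ fst)
    refine ⟨C, b, a, etale_of_locP hke hPe hb, surjective_points_of_map b fun y => ?_,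
      by rw [ha, hb, Category.assoc, Category.assoc, sq.w]⟩
    obtain ⟨w, rfl⟩ := hPs y
    obtain ⟨v, rfl⟩ := surjective_map_of_repWith hks w
    exact ⟨v, by rw [hb, Points.map_comp]⟩
  -- the diagonal is representable
  have hdiag : Representable (Limits.diag F) := by
    refine representable_of_mono_fppf fun T g => ?_
    obtain ⟨C₁, b₁, a₁, hb₁e, hb₁s, h₁⟩ := hlift (g ≫ prod.fst)
    obtain ⟨C₂, b₂, a₂, hb₂e, hb₂s, h₂⟩ := hlift ((yon S).map b₁ ≫ g ≫ prod.snd)
    haveI := hb₁e; haveI := hb₂e; haveI := hb₁s; haveI := hb₂s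
    let cW : C₂ ⟶ T := b₂ ≫ b₁
    haveI : Etale cW.left := inferInstanceAs (Etale (b₂.left ≫ b₁.left))
    haveI : Surjective cW.left := inferInstanceAs (Surjective (b₂.left ≫ b₁.left))
    obtain ⟨ρ, hρ₁, hρ₂⟩ : ∃ ρ : C₂ ⟶ Qo, ρ ≫ q₁ = b₂ ≫ a₁ ∧ ρ ≫ q₂ = a₂ :=
      ⟨pullback.lift (b₂ ≫ a₁) a₂ (Over.OverMorphism.ext (by
        change (b₂ ≫ a₁).left ≫ Z₀.hom = a₂.left ≫ Z₀.hom
        rw [Over.w, Over.w])), pullback.lift_fst _ _ _, pullback.lift_snd _ _ _⟩
    have hρg : (yon S).map ρ ≫ prod.lift ((yon S).map q₁ ≫ (yon S).map q ≫ p) ((yon S).map q₂ ≫ (yon S).map q ≫ p) =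
        (yon S).map cW ≫ g := by
      apply prod.hom_ext
      · rw [Category.assoc, prod.lift_fst, Category.assoc, ← Functor.map_comp_assoc, hρ₁, Functor.map_comp_assoc,
          h₁, Functor.map_comp, Category.assoc]
      · rw [Category.assoc, prod.lift_snd, Category.assoc, ← Functor.map_comp_assoc, hρ₂, h₂, Functor.map_comp,
          Category.assoc]
    refine ⟨C₂, cW, pullback z ρ, pullback.snd z ρ, (yon S).map (pullback.fst z ρ) ≫ (yon S).map r₁ ≫ (yon S).map q ≫ p,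
      inferInstance, inferInstance, inferInstance,
      MorphismProperty.of_isPullback (isPullback_left (IsPullback.of_hasPullback z ρ)) ‹LocallyOfFiniteType z.left›, ?_⟩
    rw [← hρg]
    exact (isPullback_yon_map (IsPullback.of_hasPullback z ρ)).paste_horiz sqdiag
  -- the atlas
  let p' := (yon S).map q ≫ p
  have hrep : Representable p' := Functor.relativelyRepresentable.of_diag hdiag p'
  have hpe : RepWith @Etale p' := by
    refine ⟨hrep, fun T V g fst snd sq => ?_⟩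
    obtain ⟨-, he, -⟩ := hA g fst _ sq
    exact etale_of_locP (repWith_id _ V) he (Category.id_comp _).symm
  exact isAlgSpace_of_etale_surjective (IsAlgSpace.yon_obj Z₀) p' hpe ((repWith_surjective_iff hrep).2 hsurj)

end Groth.Agent.Boot
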