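import Groth.Agent.ASt.Stack
import Groth.Agent.ASt.StackSetoid
/-!
Faithfulness is local on the target for morphisms of prestacks.
-/

set_option autoImplicit false
set_option backward.isDefEq.respectTransparency false
set_option backward.isDefEq.respectTransparency.types false

universe v₄ u₄ v₃ u₃ v₂ u₂ v u

open CategoryTheory

namespace Groth.Agent.Boot

open Groth.Agent.ASt

variable {C : Type u} [Category.{v} C]

theorem eq_id_of_local {J : GrothendieckTopology C} {𝒳 : BasedCategory.{v₂, u₂} C}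
    (hp : Stk.IsPrestack J 𝒳) [FibCat.IsFibGrpd 𝒳.p] {x : 𝒳.obj} (v : x ⟶ x) (hv : 𝒳.p.map v = 𝟙 _)
    (R : Sieve (𝒳.p.obj x)) (hR : R ∈ J _)
    (h : ∀ ⦃V : C⦄ (f : V ⟶ 𝒳.p.obj x), R f → pullHom x rfl f ≫ v = pullHom x rfl f) : v = 𝟙 x := by
  let Y := objFun x (rfl : 𝒳.p.obj x = _)
  let φ : Y.obj (ov (𝟙 _)) ⟶ x := pullHom x rfl (𝟙 _)
  have hφ : 𝒳.p.map φ = eqToHom ((Y.w_obj (ov (𝟙 _))).trans (ov_base (𝟙 _))) :=
    (map_pullHom _ _ _).trans (by simp)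
  haveI : IsIso φ := isIso_of_vert φ hφ
  let a : Y.obj (ov (𝟙 _)) ⟶ Y.obj (ov (𝟙 _)) := φ ≫ v ≫ inv φ
  have ha : 𝒳.p.map a = eqToHom ((Y.w_obj _).trans (Y.w_obj _).symm) := by
    simp [a, hv]
  let α := funIso (y := Y) (y' := Y) a ha
  have happ : ∀ g, α.hom.toNatTrans.app g ≫ Y.map (toTop g) = Y.map (toTop g) ≫ a := fun g =>
    facMap_comp (Y.map (toTop g)) (Y.map (toTop g) ≫ a)
      (eqToHom ((Y.w_obj g).trans (Y.w_obj g).symm)) (by simp [map_toTop, ha])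
  have hmap : ∀ g, 𝒳.p.map (α.hom.toNatTrans.app g) = eqToHom ((Y.w_obj g).trans (Y.w_obj g).symm) :=
    fun g => map_facMap (Y.map (toTop g)) (Y.map (toTop g) ≫ a)
      (eqToHom ((Y.w_obj g).trans (Y.w_obj g).symm)) (by simp [map_toTop, ha])
  haveI : (Stk.resSieve R 𝒳).Faithful := (hp.2 R hR).2
  have hres : (Stk.resSieve R 𝒳).map α.hom = (Stk.resSieve R 𝒳).map (𝟙 Y) := by
    refine basedHom_ext fun g => ?_
    show α.hom.toNatTrans.app g.obj = 𝟙 _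
    refine hom_ext (Y.map (toTop g.obj)) ?_ ?_
    · rw [hmap]
      simp
    · rw [happ, Category.id_comp]
      refine (cancel_mono φ).1 ?_
      have h1 : Y.map (toTop g.obj) ≫ φ = pullHom x rfl g.obj.hom := objMap_comp x rfl (toTop g.obj)
      simp only [a, Category.assoc, IsIso.inv_hom_id, Category.comp_id, h1]
      rw [← Category.assoc, h1]
      exact h _ g.property
  have hα := app_eq_of_eq ((Stk.resSieve R 𝒳).map_injective hres) (ov (𝟙 _))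
  have h2 := happ (ov (𝟙 _))
  rw [hα] at h2
  have ht : toTop (ov (𝟙 (𝒳.p.obj x))) = 𝟙 _ := Over.OverMorphism.ext rfl
  rw [ht, Y.toFunctor.map_id, Category.id_comp] at h2
  have h3 : a = 𝟙 _ := h2.symm.trans (Category.comp_id _)
  have h4 : φ ≫ v = φ := by
    have := congrArg (· ≫ φ) h3
    simpa [a] using this
  exact (cancel_epi φ).1 (h4.trans (Category.comp_id φ).symm)

variable {𝒳 : BasedCategory.{v₂, u₂} C} {𝒴 : BasedCategory.{v₃, u₃} C} {𝒲 : BasedCategory.{v₄, u₄} C}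

theorem faithful_of_kernel [FibCat.IsFibGrpd 𝒳.p] [FibCat.IsFibGrpd 𝒴.p] (f : 𝒳 ⥤ᵇ 𝒴)
    (h : ∀ (x : 𝒳.obj) (v : x ⟶ x), 𝒳.p.map v = 𝟙 _ → f.map v = 𝟙 _ → v = 𝟙 x) :
    f.toFunctor.Faithful := by
  refine ⟨fun {x y} a b e => ?_⟩
  have hp : 𝒳.p.map a = 𝒳.p.map b := map_inj_w f e
  let v := facMap a b (𝟙 _) (by rw [Category.id_comp]; exact hp)
  have hv : v ≫ a = b := facMap_comp _ _ _ _
  have hpv : 𝒳.p.map v = 𝟙 _ := map_facMap _ _ _ _
  have hfv : f.map v = 𝟙 _ := hom_ext (f.map a) (by rw [map_w, hpv]; simp)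
    (by rw [← f.toFunctor.map_comp, hv, Category.id_comp]; exact e.symm)
  rw [← hv, h x v hpv hfv, Category.id_comp]

/-- Faithfulness may be checked after pulling back along a morphism which is locally essentially
surjective. -/
theorem faithful_of_faithful_fpFst {J : GrothendieckTopology C} (hp : Stk.IsPrestack J 𝒳)
    [FibCat.IsFibGrpd 𝒳.p] [FibCat.IsFibGrpd 𝒴.p] [FibCat.IsFibGrpd 𝒲.p] (F : 𝒲 ⥤ᵇ 𝒴) (G : 𝒳 ⥤ᵇ 𝒴)
    (hF : ∀ y : 𝒴.obj, ∃ R ∈ J (𝒴.p.obj y), ∀ ⦃V : C⦄ (f : V ⟶ 𝒴.p.obj y), R f →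
      ∃ (x : 𝒲.obj) (φ : F.obj x ⟶ y), 𝒴.p.IsHomLift f φ)
    (hG' : (FibCat.fpFst F G).toFunctor.Faithful) : G.toFunctor.Faithful := by
  refine faithful_of_kernel G fun x v hv hGv => ?_
  obtain ⟨R, hR, hloc⟩ := hF (G.obj x)
  let e : 𝒳.p.obj x ⟶ 𝒴.p.obj (G.obj x) := eqToHom (G.w_obj x).symm
  refine eq_id_of_local hp v hv (R.pullback e) (J.pullback_stable e hR) fun V f hf => ?_
  obtain ⟨w, φ, hφ⟩ := hloc (f ≫ e) hf
  let k := pullHom x rfl f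
  let x' := pull x rfl f
  have hw : 𝒴.p.obj (F.obj w) = V := IsHomLift.domain_eq 𝒴.p (f ≫ e) φ
  have hφm : 𝒴.p.map φ = eqToHom hw ≫ f ≫ e := by
    rw [IsHomLift.fac' 𝒴.p (f ≫ e) φ]; simp
  have hb : 𝒳.p.obj x' = 𝒲.p.obj w := (pull_base x rfl f).trans (hw.symm.trans (F.w_obj w))
  let θ : F.obj w ⟶ G.obj x' := facMap (G.map k) φ
    (eqToHom ((F.w_obj w).trans (hb.symm.trans (G.w_obj x').symm))) (by
      rw [map_w, map_pullHom, hφm]; simp [e])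
  have hθm : 𝒴.p.map θ = eqToHom ((F.w_obj w).trans (hb.symm.trans (G.w_obj x').symm)) :=
    map_facMap _ _ _ _
  haveI : IsIso θ := isIso_of_vert θ hθm
  let v' := facMap k (k ≫ v) (𝟙 _) (by rw [Functor.map_comp, hv]; simp)
  have hv' : v' ≫ k = k ≫ v := facMap_comp _ _ _ _
  have hGv' : G.map v' = 𝟙 _ := hom_ext (G.map k) (by rw [map_w, map_facMap]; simp) (by
    rw [← G.toFunctor.map_comp, hv', G.toFunctor.map_comp, hGv, Category.comp_id, Category.id_comp])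
  let o : (FibCat.fp F G).obj := fpMk w x' hb (asIso θ) hθm
  let m : o ⟶ o := fpHomMk (m := o) (n := o) (𝟙 w) v' (by
    show F.toFunctor.map (𝟙 w) ≫ θ = θ ≫ G.map v'
    rw [hGv']
    exact (congrArg (· ≫ θ) (F.toFunctor.map_id w)).trans ((Category.id_comp θ).trans (Category.comp_id θ).symm))
  have hm : m = 𝟙 o := hG'.map_injective rfl
  have h1 : v' = 𝟙 x' := congrArg (fun q => q.hom.snd) hm
  rw [← hv', h1, Category.id_comp]

/-- The same for absolute faithfulness, when the auxiliary morphism is full. -/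
theorem faithful_p_of_faithful_fp {J : GrothendieckTopology C} (hp : Stk.IsPrestack J 𝒳)
    [FibCat.IsFibGrpd 𝒳.p] [FibCat.IsFibGrpd 𝒴.p] [FibCat.IsFibGrpd 𝒲.p] (F : 𝒲 ⥤ᵇ 𝒴) [F.toFunctor.Full]
    (G : 𝒳 ⥤ᵇ 𝒴)
    (hF : ∀ y : 𝒴.obj, ∃ R ∈ J (𝒴.p.obj y), ∀ ⦃V : C⦄ (f : V ⟶ 𝒴.p.obj y), R f →
      ∃ (x : 𝒲.obj) (φ : F.obj x ⟶ y), 𝒴.p.IsHomLift f φ)
    (hG' : (FibCat.fp F G).p.Faithful) : 𝒳.p.Faithful := by
  refine ⟨fun {x y} a b e => ?_⟩
  let v := facMap a b (𝟙 _) (by rw [Category.id_comp]; exact e)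
  have hva : v ≫ a = b := facMap_comp _ _ _ _
  have hv : 𝒳.p.map v = 𝟙 _ := map_facMap _ _ _ _
  suffices h : v = 𝟙 x by rw [← hva, h, Category.id_comp]
  obtain ⟨R, hR, hloc⟩ := hF (G.obj x)
  let ee : 𝒳.p.obj x ⟶ 𝒴.p.obj (G.obj x) := eqToHom (G.w_obj x).symm
  refine eq_id_of_local hp v hv (R.pullback ee) (J.pullback_stable ee hR) fun V f hf => ?_
  obtain ⟨w, φ, hφ⟩ := hloc (f ≫ ee) hf
  let k := pullHom x rfl f
  let x' := pull x rfl f
  have hw : 𝒴.p.obj (F.obj w) = V := IsHomLift.domain_eq 𝒴.p (f ≫ ee) φ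
  have hφm : 𝒴.p.map φ = eqToHom hw ≫ f ≫ ee := by
    rw [IsHomLift.fac' 𝒴.p (f ≫ ee) φ]; simp
  have hb : 𝒳.p.obj x' = 𝒲.p.obj w := (pull_base x rfl f).trans (hw.symm.trans (F.w_obj w))
  let θ : F.obj w ⟶ G.obj x' := facMap (G.map k) φ
    (eqToHom ((F.w_obj w).trans (hb.symm.trans (G.w_obj x').symm))) (by
      rw [map_w, map_pullHom, hφm]; simp [ee])
  have hθm : 𝒴.p.map θ = eqToHom ((F.w_obj w).trans (hb.symm.trans (G.w_obj x').symm)) :=
    map_facMap _ _ _ _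
  haveI : IsIso θ := isIso_of_vert θ hθm
  let v' := facMap k (k ≫ v) (𝟙 _) (by rw [Functor.map_comp, hv]; simp)
  have hv' : v' ≫ k = k ≫ v := facMap_comp _ _ _ _
  have hv'm : 𝒳.p.map v' = 𝟙 _ := map_facMap _ _ _ _
  let r : F.obj w ⟶ F.obj w := θ ≫ G.map v' ≫ inv θ
  let u : w ⟶ w := F.toFunctor.preimage r
  have hu : F.map u = r := F.toFunctor.map_preimage r
  have hum : 𝒲.p.map u = 𝟙 _ := by
    have h1 := map_w F u
    rw [hu] at h1
    simp [r, map_w, hv'm, hθm] at h1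
    have h2 := congrArg (fun q => eqToHom (F.w_obj w).symm ≫ q ≫ eqToHom (F.w_obj w)) h1
    simpa using h2.symm
  let o : (FibCat.fp F G).obj := fpMk w x' hb (asIso θ) hθm
  let m : o ⟶ o := fpHomMk (m := o) (n := o) u v' (by
    show F.map u ≫ θ = θ ≫ G.map v'
    simp [hu, r])
  have hm : m = 𝟙 o := hG'.map_injective
    (show 𝒲.p.map u = (FibCat.fp F G).p.map (𝟙 o) by exact hum.trans ((FibCat.fp F G).p.map_id o).symm)
  have h1 : v' = 𝟙 x' := congrArg (fun q => q.hom.snd) hm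
  rw [← hv', h1, Category.id_comp]

end Groth.Agent.Boot
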