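import Groth.Agent.Boot.Setoid
import Groth.Agent.ASt.DiagAbs
import Groth.Agent.ASt.RepDesc
/-!
A stack with a smooth surjective representable morphism from an algebraic space has representable
diagonal.
-/

set_option autoImplicit false
set_option backward.isDefEq.respectTransparency false
set_option backward.isDefEq.respectTransparency.types false

universe u

open CategoryTheory CategoryTheory.Limits AlgebraicGeometry Opposite

namespace Groth.Agent.Boot

open _root_.AlgSp Groth.Agent.ASp Groth.Agent.ASt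

variable {S : Scheme.{u}}

/-- A map representable by schemes, smooth and surjective, is a smooth chart. -/
theorem isSmoothChart_of_repWith {F : Sp S} {U : Over S} {p : (yon S).obj U ⟶ F}
    (h₁ : RepWith @Smooth p) (h₂ : RepWith @Surjective p) : IsSmoothChart p := by
  intro T g P fst snd sq
  obtain ⟨V, fst', snd', sq'⟩ : ∃ (V : Over S) (fst' : (yon S).obj V ⟶ (yon S).obj U) (snd' : V ⟶ T),
      IsPullback fst' ((yon S).map snd') p g := ⟨_, _, _, h₁.1.isPullback g⟩
  have hP : IsAlgSpace P := (IsAlgSpace.yon_obj V).of_iso (sq'.isoIsPullback _ _ sq)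
  refine ⟨hP, ?_, surjective_map_of_repWith (repWith_of_isPullback sq h₂)⟩
  exact locP_of_repWith (repWith_of_isPullback sq h₁)

variable {𝒰 𝒳 : AlgSt.Cat S} [FibCat.IsFibGrpd 𝒰.p] [FibCat.IsFibGrpd 𝒳.p]

theorem repByAlgSp1_diag_of_smooth (hX : Stk.IsStack (QuotSh.J Scheme.fppfPrecoverage S) 𝒳)
    (hU : AlgSt.RepByAlgSp 𝒰) {W : Over S} (a : FibCat.overCat W ⥤ᵇ 𝒰) (u : 𝒰 ⥤ᵇ 𝒳)
    (hu : AlgSt.RepByAlgSp1 u)
    (hsm : AlgSt.RepByAlgSpWith (LocP @Smooth) (BasedFunctor.comp a u))
    (hsurj : AlgSt.RepByAlgSpWith IsSurjectiveMor (BasedFunctor.comp a u)) :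
    AlgSt.RepByAlgSp1 (FibCat.diag (FibCat.toSelf 𝒳)) := by
  refine repByAlgSp1_diag_iff.2 fun U x => ?_
  haveI : x.toFunctor.Faithful := faithful_of_faithful_source x
  refine repByAlgSp1_iff.2 ⟨inferInstance, fun V y => ?_⟩
  obtain ⟨V', l, v, hl, hls, ⟨α⟩⟩ := exists_overMap_iso hsm hsurj y
  let y' := BasedFunctor.comp (AlgSt.overMap v) (BasedFunctor.comp a u)
  have hy' : AlgSt.RepByAlgSp1 y' :=
    repByAlgSp1_comp (repByAlgSp1_of_repByAlgSp (repByAlgSp_overCat V') (repByAlgSp_overCat W) _)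
      (repByAlgSp1_comp (repByAlgSp1_of_repByAlgSp (repByAlgSp_overCat W) hU a) hu)
  haveI : FibCat.IsFibGrpd (FibCat.fp y x).p := isFibGrpd_fp
  haveI : (FibCat.fpFst y x).toFunctor.Faithful := faithful_fpFst
  haveI : (FibCat.fp y x).p.Faithful := inferInstance
  have hsF : Presheaf.IsSheaf (J S) (fib y x) := (isSheaf_iff_isSheaf_of_type _ _).2
    (isStack_ofPsh_iff.1 (isStack_of_isEquivOver isEquivOver_toPsh
      (isStack_fp (F := y) (G := x) (isAlgStack_overCat V).isStack (isAlgStack_overCat U).isStack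
        (isPrestack_of_isStack hX))))
  refine ⟨hsF, ?_⟩
  obtain ⟨hs', hA'⟩ : IsAlgSpaceP (fib (BasedFunctor.comp (AlgSt.overMap l) y) x) :=
    (isAlgSpaceP_swap x y' ((repByAlgSp1_iff.1 hy').2 U x)).of_iso (changeIso α.symm x)
  let F : Sp S := ⟨fib y x, hsF⟩
  let F' : Sp S := ⟨fib (BasedFunctor.comp (AlgSt.overMap l) y) x, hs'⟩
  let q : F' ⟶ F := ObjectProperty.homMk (clFun (restrF l y x))
  let π' : F' ⟶ (yon S).obj V' := ObjectProperty.homMk (fibπ (BasedFunctor.comp (AlgSt.overMap l) y) x)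
  let π : F ⟶ (yon S).obj V := ObjectProperty.homMk (fibπ y x)
  have sq : IsPullback q π' π ((yon S).map l) :=
    IsPullback.of_map_of_faithful (sheafToPresheaf (J S) (Type (u + 1))) (isPullback_restrF l y)
  obtain ⟨C, p, hpe, hps⟩ := hA'.atlas
  refine isAlgSpace_of_smoothChart (p := p ≫ q) (isSmoothChart_of_repWith ?_ ?_)
  · exact repWith_comp (repWith_mono (fun _ _ g (hg : Etale g) => inferInstanceAs (Smooth g)) hpe)
      (repWith_of_isPullback sq.flip (repWith_yon_map hl))
  · exact repWith_comp hps (repWith_of_isPullback sq.flip (repWith_yon_map hls))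

end Groth.Agent.Boot
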