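import Groth.Agent.SmSrc.Smooth
import Groth.Agent.ASp.EtLocal
import Mathlib.AlgebraicGeometry.Morphisms.FlatMono
/-!
The etale locus of a morphism of schemes, pointwise, and its invariance under etale changes of the
source and smooth changes of the target.
-/

set_option backward.isDefEq.respectTransparency.types false

universe u

open CategoryTheory CategoryTheory.Limits AlgebraicGeometry

namespace Groth.Agent.Boot

open Groth.Agent.ASp

variable {X Y X' Y' : Scheme.{u}}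

/-- `f` is etale in a neighbourhood of `x`. -/
def EtAt (f : X ⟶ Y) (x : X) : Prop := ∃ O : X.Opens, x ∈ O ∧ Etale (O.ι ≫ f)

theorem isOpen_setOf_etAt (f : X ⟶ Y) : IsOpen {x | EtAt f x} := by
  refine isOpen_iff_forall_mem_open.2 fun x ⟨O, hx, hO⟩ => ⟨O, fun y hy => ⟨O, hy, hO⟩, O.isOpen, hx⟩

theorem etale_of_forall_etAt (f : X ⟶ Y) (h : ∀ x, EtAt f x) : Etale f := by
  choose O hxO hO using h
  refine IsZariskiLocalAtSource.of_iSup_eq_top O (eq_top_iff.2 fun x _ => ?_) hO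
  exact TopologicalSpace.Opens.mem_iSup.2 ⟨x, hxO x⟩

theorem etAt_comp_iff (e : X' ⟶ X) [Etale e] (f : X ⟶ Y) (x' : X') :
    EtAt (e ≫ f) x' ↔ EtAt f (e x') := by
  constructor
  · rintro ⟨O', hx, hO'⟩
    let O : X.Opens := ⟨e '' O', e.isOpenMap _ O'.isOpen⟩
    have hle : O' ≤ e ⁻¹ᵁ O := fun y hy => ⟨y, hy, rfl⟩
    refine ⟨O, ⟨x', hx, rfl⟩, IsEtLocal.of_precomp (e.resLE O O' hle) _ inferInstance ?_ ?_⟩
    · refine ⟨fun z => ?_⟩
      obtain ⟨y, hy, hye⟩ := z.2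
      refine ⟨⟨y, hy⟩, Subtype.ext ?_⟩
      rw [← hye, ← Scheme.Opens.ι_apply, ← Scheme.Hom.comp_apply, Scheme.Hom.resLE_comp_ι]
      rfl
    · rw [← Category.assoc, Scheme.Hom.resLE_comp_ι, Category.assoc]
      exact hO'
  · rintro ⟨O, hx, hO⟩
    refine ⟨e ⁻¹ᵁ O, hx, ?_⟩
    have : Etale ((e ∣_ O) ≫ O.ι ≫ f) := MorphismProperty.comp_mem _ _ _ (inferInstance : Etale (e ∣_ O)) hO
    rwa [morphismRestrict_ι_assoc] at this

theorem etAt_of_isPullback {a : X' ⟶ X} {f' : X' ⟶ Y'} {f : X ⟶ Y} {h : Y' ⟶ Y}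
    (sq : IsPullback a f' f h) {x' : X'} (hf : EtAt f (a x')) : EtAt f' x' := by
  obtain ⟨O, hx, hO⟩ := hf
  refine ⟨a ⁻¹ᵁ O, hx, ?_⟩
  exact MorphismProperty.of_isPullback (P := @Etale) ((isPullback_morphismRestrict a O).paste_vert sq) hO

theorem etAt_iff_of_isPullback {a : X' ⟶ X} {f' : X' ⟶ Y'} {f : X ⟶ Y} {h : Y' ⟶ Y}
    (sq : IsPullback a f' f h) [Smooth h] (x' : X') : EtAt f' x' ↔ EtAt f (a x') := by
  refine ⟨fun ⟨O', hx, hO'⟩ => ?_, etAt_of_isPullback sq⟩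
  haveI : Smooth a := MorphismProperty.of_isPullback sq.flip ‹Smooth h›
  let O : X.Opens := ⟨a '' O', a.isOpenMap _ O'.isOpen⟩
  have hle : O' ≤ a ⁻¹ᵁ O := fun y hy => ⟨y, hy, rfl⟩
  refine ⟨O, ⟨x', hx, rfl⟩, ?_⟩
  let ψ := O.ι ≫ f
  let ψ' := (a ⁻¹ᵁ O).ι ≫ f'
  let j : O'.toScheme ⟶ (a ⁻¹ᵁ O).toScheme := X'.homOfLE hle
  let e : O'.toScheme ⟶ O.toScheme := a.resLE O O' hle
  haveI : Etale (O'.ι ≫ f') := hO'
  have sq1 : IsPullback (a ∣_ O) ψ' ψ h := (isPullback_morphismRestrict a O).paste_vert sq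
  have hje : j ≫ (a ∣_ O) = e := by
    rw [← cancel_mono O.ι]
    simp [j, e]
  have hjψ : j ≫ ψ' = O'.ι ≫ f' := by simp [j, ψ']
  have heψ : e ≫ ψ = (O'.ι ≫ f') ≫ h := by
    rw [← hje, Category.assoc, sq1.w, reassoc_of% hjψ, Category.assoc]
  have hes : Surjective e := ⟨fun z => by
    obtain ⟨y, hy, hye⟩ := z.2
    refine ⟨⟨y, hy⟩, Subtype.ext ?_⟩
    rw [← hye, ← Scheme.Opens.ι_apply, ← Scheme.Hom.comp_apply, Scheme.Hom.resLE_comp_ι]
    rfl⟩
  haveI : Smooth ψ := IsSmLocal.of_precomp_smooth e ψ inferInstance hes (by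
    rw [heψ]; infer_instance)
  have sqA := (IsPullback.of_hasPullback ψ' ψ').flip.paste_horiz sq1
  let m : pullback ψ' ψ' ⟶ pullback ψ ψ :=
    pullback.lift (pullback.fst ψ' ψ' ≫ (a ∣_ O)) (pullback.snd ψ' ψ' ≫ (a ∣_ O)) (by
      rw [Category.assoc, Category.assoc, sq1.w, pullback.condition_assoc])
  have sqB : IsPullback m (pullback.fst ψ' ψ') (pullback.fst ψ ψ) (a ∣_ O) := by
    refine IsPullback.of_right ?_ (pullback.lift_fst _ _ _) (IsPullback.of_hasPullback ψ ψ).flip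
    rw [show m ≫ pullback.snd ψ ψ = pullback.snd ψ' ψ' ≫ (a ∣_ O) from pullback.lift_snd _ _ _, sq1.w]
    exact sqA
  haveI : Smooth m := MorphismProperty.of_isPullback sqB.flip
    (IsZariskiLocalAtTarget.restrict ‹Smooth a› O)
  haveI : Etale (j ≫ ψ') := by rw [hjψ]; infer_instance
  let n : pullback (j ≫ ψ') (j ≫ ψ') ⟶ pullback ψ' ψ' :=
    pullback.map _ _ _ _ j j (𝟙 _) (Category.comp_id _) (Category.comp_id _)
  haveI : Smooth (pullback.diagonal (j ≫ ψ') ≫ n ≫ m) := inferInstance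
  haveI : Smooth (pullback.diagonal ψ) := IsSmLocal.of_precomp_smooth e _ inferInstance hes (by
    rw [show e ≫ pullback.diagonal ψ = pullback.diagonal (j ≫ ψ') ≫ n ≫ m by
      apply pullback.hom_ext
      · simp only [Category.assoc, n, m, pullback.lift_fst, pullback.lift_fst_assoc, pullback.map, pullback.diagonal_fst, pullback.diagonal_fst_assoc, Category.comp_id, hje]
      · simp only [Category.assoc, n, m, pullback.lift_snd, pullback.lift_snd_assoc, pullback.map, pullback.diagonal_snd, pullback.diagonal_snd_assoc, Category.comp_id, hje]]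
    infer_instance)
  haveI : IsOpenImmersion (pullback.diagonal ψ) := IsOpenImmersion.of_flat_of_mono _
  exact Etale.of_formallyUnramified_of_flat _

end Groth.Agent.Boot
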