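import Mathlib.AlgebraicGeometry.Morphisms.Etale
import Mathlib.RingTheory.Unramified.LocalStructure
import Mathlib.RingTheory.Spectrum.Prime.Topology
/-!
An affine etale morphism has boundedly many points over every field-valued point.
-/

set_option backward.isDefEq.respectTransparency.types false

universe u

open CategoryTheory AlgebraicGeometry Polynomial

namespace Groth.Agent.Boot

/-- An etale algebra has boundedly many homomorphisms to a field. -/
theorem exists_card_algHom_le (B C : Type u) [CommRing B] [CommRing C] [Algebra B C] [Algebra.Etale B C] :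
    ∃ N : ℕ, ∀ (K : Type u) [Field K] [Algebra B K] (s : Finset (C →ₐ[B] K)), s.card ≤ N := by
  classical
  have h : ∀ p : PrimeSpectrum C, ∃ g ∉ p.asIdeal, Algebra.IsStandardEtale B (Localization.Away g) := fun p =>
    Algebra.IsEtaleAt.exists_isStandardEtale (R := B) p.asIdeal
  choose g hg hst using h
  obtain ⟨t, ht⟩ := isCompact_univ.elim_finite_subcover (fun p : PrimeSpectrum C => (PrimeSpectrum.basicOpen (g p) : Set (PrimeSpectrum C)))
    (fun p => (PrimeSpectrum.basicOpen _).isOpen) (fun p _ => Set.mem_iUnion.2 ⟨p, hg p⟩)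
  let P : ∀ p, StandardEtalePresentation B (Localization.Away (g p)) := fun p =>
    (hst p).nonempty_standardEtalePresentation.some
  refine ⟨∑ p ∈ t, (P p).f.natDegree, fun K _ _ s => ?_⟩
  have hl : ∀ l : C →ₐ[B] K, ∃ p ∈ t, IsUnit (l (g p)) := fun l => by
    obtain ⟨p, hp, hl'⟩ := Set.mem_iUnion₂.1 (ht (Set.mem_univ
      (⟨RingHom.ker l.toRingHom, RingHom.ker_isPrime _⟩ : PrimeSpectrum C)))
    exact ⟨p, hp, isUnit_iff_ne_zero.2 hl'⟩
  choose p hp hu using hl
  have hext : ∀ (q : PrimeSpectrum C) (l : C →ₐ[B] K), IsUnit (l (g q)) →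
      ∃ L : Localization.Away (g q) →ₐ[B] K, L.comp (IsScalarTower.toAlgHom B C _) = l := fun q l hu =>
    ⟨IsLocalization.liftAlgHom (M := Submonoid.powers (g q)) (f := l) fun ⟨y, n, hn⟩ => by
      subst hn; simpa using hu.pow n, AlgHom.ext fun c => by simp⟩
  choose L hL using fun l => hext (p l) l (hu l)
  let r : (q : PrimeSpectrum C) → Finset K := fun q => ((P q).f.map (algebraMap B K)).roots.toFinset
  have hmem : ∀ l, (⟨p l, L l (P (p l)).x⟩ : Σ _ : PrimeSpectrum C, K) ∈ t.sigma r := fun l => by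
    refine Finset.mem_sigma.2 ⟨hp l, ?_⟩
    simp only [r, Multiset.mem_toFinset, mem_roots', IsRoot.def, eval_map, ← aeval_def]
    refine ⟨((P _).monic_f.map _).ne_zero, ?_⟩
    exact ((P _).hasMap.map (L l)).1
  have key : ∀ (l l' : C →ₐ[B] K) (q q' : PrimeSpectrum C) (M : Localization.Away (g q) →ₐ[B] K)
      (M' : Localization.Away (g q') →ₐ[B] K), M.comp (IsScalarTower.toAlgHom B C _) = l →
      M'.comp (IsScalarTower.toAlgHom B C _) = l' →
      (⟨q, M (P q).x⟩ : Σ _ : PrimeSpectrum C, K) = ⟨q', M' (P q').x⟩ → l = l' := by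
    intro l l' q q' M M' h h' e
    obtain ⟨rfl, e⟩ := Sigma.mk.inj e
    rw [← h, ← h', (P q).hom_ext (eq_of_heq e)]
  refine le_trans (Finset.card_le_card_of_injOn (fun l => (⟨p l, L l (P (p l)).x⟩ : Σ _ : PrimeSpectrum C, K))
    (fun l _ => hmem l) (fun l _ l' _ e => key l l' _ _ _ _ (hL l) (hL l') e)) ?_
  rw [Finset.card_sigma]
  exact Finset.sum_le_sum fun q _ => (Multiset.toFinset_card_le _).trans
    ((card_roots' _).trans natDegree_map_le)

/-- `a` has at most `N` points over every field-valued point of the base. -/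
def FibBound (N : ℕ) {A T : Scheme.{u}} (a : A ⟶ T) : Prop :=
  ∀ (K : Type u) [Field K] (l : Fin (N + 1) → (Spec (CommRingCat.of K) ⟶ A)),
    (∀ i j, l i ≫ a = l j ≫ a) → ¬ Function.Injective l

theorem exists_fibBound {A T : Scheme.{u}} [IsAffine A] [IsAffine T] (a : A ⟶ T) [Etale a] :
    ∃ N, FibBound N a := by
  classical
  let φ := a.appTop
  algebraize [φ.hom]
  have : φ.hom.Etale := (HasRingHomProperty.iff_of_isAffine (P := @Etale)).1 ‹_›
  haveI : Algebra.Etale Γ(T, ⊤) Γ(A, ⊤) := this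
  obtain ⟨N, hN⟩ := exists_card_algHom_le Γ(T, ⊤) Γ(A, ⊤)
  refine ⟨N, fun K _ l hl hinj => ?_⟩
  let ev : (Spec (CommRingCat.of K) ⟶ A) → (Γ(A, ⊤) ⟶ CommRingCat.of K) := fun m =>
    m.appTop ≫ (Scheme.ΓSpecIso _).hom
  letI : Algebra Γ(T, ⊤) K := ((ev (l 0)).hom.comp φ.hom).toAlgebra
  let L : Fin (N + 1) → (Γ(A, ⊤) →ₐ[Γ(T, ⊤)] K) := fun i =>
    ⟨(ev (l i)).hom, fun b => by
      change (ev (l i)).hom (φ.hom b) = (ev (l 0)).hom (φ.hom b)
      have := congrArg (fun m => (m.appTop ≫ (Scheme.ΓSpecIso (CommRingCat.of K)).hom).hom b) (hl i 0)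
      simpa [ev, φ] using this⟩
  have hL : Function.Injective L := fun i j e => hinj (ext_of_isAffine (by
    rw [← cancel_mono (Scheme.ΓSpecIso (CommRingCat.of K)).hom]
    exact CommRingCat.hom_ext (congrArg AlgHom.toRingHom e)))
  have := hN K (Finset.univ.image L)
  rw [Finset.card_image_of_injective _ hL, Finset.card_univ, Fintype.card_fin] at this
  omega

end Groth.Agent.Boot
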