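import Groth.Agent.ASt.DiagLft
import Groth.Agent.ASt.Stack
import Groth.Agent.ASp.Sheaf
/-!
Surjective flat morphisms of stacks locally of finite presentation are locally essentially
surjective for the fppf topology.
-/

set_option autoImplicit false
set_option backward.isDefEq.respectTransparency false
set_option backward.isDefEq.respectTransparency.types false

universe u

open CategoryTheory CategoryTheory.Limits AlgebraicGeometry Opposite

namespace Groth.Agent.Boot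

open _root_.AlgSp Groth.Agent.ASp Groth.Agent.ASt

variable {S : Scheme.{u}} {𝒲 𝒴 : AlgSt.Cat S} [FibCat.IsFibGrpd 𝒲.p] [FibCat.IsFibGrpd 𝒴.p]
  {w : 𝒲 ⥤ᵇ 𝒴}

theorem exists_fppf_lift (h₁ : AlgSt.RepByAlgSpWith (LocP @Flat) w)
    (h₂ : AlgSt.RepByAlgSpWith (LocP @LocallyOfFinitePresentation) w)
    (h₃ : AlgSt.RepByAlgSpWith IsSurjectiveMor w)
    {U : Over S} (y : FibCat.overCat U ⥤ᵇ 𝒴) :
    ∃ (V : Over S) (l : V ⟶ U), Flat l.left ∧ LocallyOfFinitePresentation l.left ∧ Surjective l.left ∧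
      ∃ (ω : 𝒲.obj) (hω : 𝒲.p.obj ω = V) (φ : y.obj (ov l) ⟶ w.obj ω), 𝒴.p.map φ = eqToHom
        (((y.w_obj (ov l)).trans (ov_base l)).trans (hω.symm.trans (w.w_obj ω).symm)) := by
  obtain ⟨hs, hA, hfl⟩ := (repByAlgSpWith_iff.1 h₁).2 U y
  obtain ⟨_, _, hfp⟩ := (repByAlgSpWith_iff.1 h₂).2 U y
  obtain ⟨_, _, hsu⟩ := (repByAlgSpWith_iff.1 h₃).2 U y
  obtain ⟨V, p, hpe, hps⟩ := hA.atlas
  obtain ⟨l, hl⟩ := (yon S).map_surjective
    (p ≫ (ObjectProperty.homMk (fibπ y w) : (⟨fib y w, hs⟩ : Sp S) ⟶ (yon S).obj U))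
  have h1 : Flat l.left := hfl p (𝟙 _) l hpe (repWith_id _ U) (by rw [Category.comp_id, hl])
  have h2 : LocallyOfFinitePresentation l.left :=
    hfp p (𝟙 _) l hpe (repWith_id _ U) (by rw [Category.comp_id, hl])
  have h3 : Surjective l.left := by
    have : Function.Surjective (Points.map ((yon S).map l)) := by
      rw [hl, show Points.map (p ≫ _) = Points.map _ ∘ Points.map p from funext (Points.map_comp p _)]
      exact hsu.comp (surjective_map_of_repWith hps)
    exact surjective_left_of_map this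
  refine ⟨V, l, h1, h2, h3, ?_⟩
  obtain ⟨k, g, hg, φ, hφ, hc⟩ := fpEl_exists (y := y) (f := w) (T := V)
    (uliftYonedaEquiv.{u + 1} p.hom : ClType (FibCat.fp y w) V)
  obtain rfl : k = l := by
    have e : ULift.up (fpHom (fpEl (y := y) (f := w) k g hg φ hφ)) = ULift.up l := by
      rw [← hc]
      have := congrArg (fun m : (yon S).obj V ⟶ (yon S).obj U =>
        uliftYonedaEquiv.{u + 1} m.hom) hl
      exact this.symm.trans (by simp [uliftYonedaEquiv]; exact congrArg ULift.up (Category.id_comp l))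
    exact (fpHom_fpEl k g hg φ hφ).symm.trans (congrArg ULift.down e)
  exact ⟨g, hg, φ, hφ⟩

theorem locEssSurj_of_fppf (h₁ : AlgSt.RepByAlgSpWith (LocP @Flat) w)
    (h₂ : AlgSt.RepByAlgSpWith (LocP @LocallyOfFinitePresentation) w)
    (h₃ : AlgSt.RepByAlgSpWith IsSurjectiveMor w) (b : 𝒴.obj) :
    ∃ R ∈ QuotSh.J Scheme.fppfPrecoverage S (𝒴.p.obj b), ∀ ⦃V : Over S⦄ (f : V ⟶ 𝒴.p.obj b), R f →
      ∃ (x : 𝒲.obj) (φ : w.obj x ⟶ b), 𝒴.p.IsHomLift f φ := by
  let y := objFun b (rfl : 𝒴.p.obj b = _)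
  obtain ⟨V, l, h1, h2, h3, ω, hω, φ, hφ⟩ := exists_fppf_lift h₁ h₂ h₃ y
  refine ⟨Sieve.generate (Presieve.singleton l), ?_, ?_⟩
  · change _ ∈ (J S) _
    rw [GrothendieckTopology.mem_over_iff]
    refine GrothendieckTopology.superset_covering _ ?_
      (Precoverage.generate_mem_toGrothendieck l.left.singleton_mem_fppfPrecoverage)
    rw [Sieve.generate_le_iff]
    rintro _ _ ⟨⟩
    exact ⟨V, l, 𝟙 _, Sieve.le_generate _ _ _ (Presieve.singleton.mk), (Category.id_comp _).symm⟩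
  · rintro V' f ⟨_, g, _, ⟨⟩, rfl⟩
    haveI : IsIso φ := isIso_of_vert φ hφ
    have hφi : 𝒴.p.map (inv φ) = eqToHom
        ((w.w_obj ω).trans (hω.trans ((y.w_obj (ov l)).trans (ov_base l)).symm)) := by
      simp [Functor.map_inv, hφ]
    refine ⟨pull ω hω g, w.map (pullHom ω hω g) ≫ inv φ ≫ pullHom b rfl l, ?_⟩
    refine isHomLift_of_map _ ((w.w_obj _).trans (pull_base ω hω g)) rfl ?_
    rw [Functor.map_comp, Functor.map_comp, map_w, hφi, map_pullHom]
    erw [map_pullHom]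
    simp

end Groth.Agent.Boot
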