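import Groth.Agent.Boot.Setoid
import Groth.Agent.Boot.FaithfulDesc
import Groth.Agent.Boot.LocEss
/-!
Monomorphisms of stacks descend along locally essentially surjective morphisms.
-/

set_option autoImplicit false
set_option backward.isDefEq.respectTransparency false
set_option backward.isDefEq.respectTransparency.types false

universe u

open CategoryTheory CategoryTheory.Limits AlgebraicGeometry Opposite

namespace Groth.Agent.Boot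

open _root_.AlgSp Groth.Agent.ASp Groth.Agent.ASt

variable {S : Scheme.{u}} {𝒳 𝒴 𝒲 : AlgSt.Cat S} [FibCat.IsFibGrpd 𝒳.p] [FibCat.IsFibGrpd 𝒴.p]
  [FibCat.IsFibGrpd 𝒲.p] {w : 𝒲 ⥤ᵇ 𝒴} {f : 𝒳 ⥤ᵇ 𝒴}

theorem fpHom_injective_of_full_fpFst [f.toFunctor.Faithful] [(FibCat.fpFst w f).toFunctor.Full]
    (hF : ∀ y : 𝒴.obj, ∃ R ∈ QuotSh.J Scheme.fppfPrecoverage S (𝒴.p.obj y), ∀ ⦃V : Over S⦄
      (g : V ⟶ 𝒴.p.obj y), R g → ∃ (x : 𝒲.obj) (φ : w.obj x ⟶ y), 𝒴.p.IsHomLift g φ)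
    {U : Over S} (y : FibCat.overCat U ⥤ᵇ 𝒴) (hs : Presheaf.IsSheaf (J S) (fib y f)) (T : Over S) :
    Function.Injective (fpHom : ClType (FibCat.fp y f) T → (T ⟶ U)) := by
  intro c c' e
  obtain ⟨k, x, hx, φ, hφ, rfl⟩ := fpEl_exists c
  obtain ⟨k', x', hx', φ', hφ', rfl⟩ := fpEl_exists c'
  obtain rfl : k = k' := (fpHom_fpEl _ _ _ _ _).symm.trans (e.trans (fpHom_fpEl _ _ _ _ _))
  clear e
  let b := y.obj (ov k)
  have hb : 𝒴.p.obj b = T := (y.w_obj (ov k)).trans (ov_base k)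
  obtain ⟨R, hR, hloc⟩ := hF b
  refine ((isSheaf_iff_isSheaf_of_type _ _).1 hs).isSeparated _
    ((J S).pullback_stable (eqToHom hb.symm) hR) |>.ext fun T' g hg => ?_
  show clMap g (fpEl k x hx φ hφ) = clMap g (fpEl k x' hx' φ' hφ')
  obtain ⟨ω, ψ, hψ⟩ := hloc (g ≫ eqToHom hb.symm) hg
  have hw : 𝒴.p.obj (w.obj ω) = T' := IsHomLift.domain_eq 𝒴.p (g ≫ eqToHom hb.symm) ψ
  have hψm : 𝒴.p.map ψ = eqToHom hw ≫ g ≫ eqToHom hb.symm := by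
    rw [IsHomLift.fac' 𝒴.p (g ≫ eqToHom hb.symm) ψ]; simp
  let k₁ := g ≫ k
  have hk₁ : 𝒴.p.obj (y.obj (ov k₁)) = T' := (y.w_obj (ov k₁)).trans (ov_base k₁)
  let ψ₁ : w.obj ω ⟶ y.obj (ov k₁) := facMap (y.map (ovHom g rfl : ov k₁ ⟶ ov k)) ψ
    (eqToHom (hw.trans hk₁.symm)) (by rw [map_w, hψm]; simp [ov_p_map])
  have hψ₁ : 𝒴.p.map ψ₁ = eqToHom (hw.trans hk₁.symm) := map_facMap _ _ _ _
  haveI : IsIso ψ₁ := isIso_of_vert ψ₁ hψ₁
  let φ₁ : y.obj (ov k₁) ⟶ f.obj (pull x hx g) := facMap (f.map (pullHom x hx g))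
    (y.map (ovHom g rfl : ov k₁ ⟶ ov k) ≫ φ)
    (eqToHom (hk₁.trans ((pull_base x hx g).symm.trans (f.w_obj _).symm)))
    (by rw [Functor.map_comp, map_w, map_w, map_pullHom, hφ]; simp [ov_p_map])
  have hφ₁ : 𝒴.p.map φ₁ = eqToHom _ := map_facMap _ _ _ _
  let φ₁' : y.obj (ov k₁) ⟶ f.obj (pull x' hx' g) := facMap (f.map (pullHom x' hx' g))
    (y.map (ovHom g rfl : ov k₁ ⟶ ov k) ≫ φ')
    (eqToHom (hk₁.trans ((pull_base x' hx' g).symm.trans (f.w_obj _).symm)))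
    (by rw [Functor.map_comp, map_w, map_w, map_pullHom, hφ']; simp [ov_p_map])
  have hφ₁' : 𝒴.p.map φ₁' = eqToHom _ := map_facMap _ _ _ _
  rw [clMap_fpEl g rfl (hx' := pull_base x hx g) (φ' := φ₁) (hφ' := hφ₁) (pullHom x hx g) (facMap_comp _ _ _ _).symm,
    clMap_fpEl g rfl (hx' := pull_base x' hx' g) (φ' := φ₁') (hφ' := hφ₁') (pullHom x' hx' g)
      (facMap_comp _ _ _ _).symm]
  haveI : IsIso φ₁ := isIso_of_vert φ₁ hφ₁
  haveI : IsIso φ₁' := isIso_of_vert φ₁' hφ₁'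
  have hωT : 𝒲.p.obj ω = T' := (w.w_obj ω).symm.trans hw
  let o : (FibCat.fp w f).obj := fpMk ω (pull x hx g) ((pull_base x hx g).trans hωT.symm)
    (asIso (ψ₁ ≫ φ₁)) (by rw [asIso_hom, Functor.map_comp, hψ₁, hφ₁, eqToHom_trans])
  let o' : (FibCat.fp w f).obj := fpMk ω (pull x' hx' g) ((pull_base x' hx' g).trans hωT.symm)
    (asIso (ψ₁ ≫ φ₁')) (by rw [asIso_hom, Functor.map_comp, hψ₁, hφ₁', eqToHom_trans])
  obtain ⟨m, hm⟩ := (FibCat.fpFst w f).toFunctor.map_surjective (X := o) (Y := o') (𝟙 ω)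
  have h1 : m.hom.fst = 𝟙 ω := hm
  refine fpEl_eq_iff.2 ⟨m.hom.snd, ?_, ?_⟩
  · rw [fp_map_snd, h1]
    show eqToHom _ ≫ 𝒲.p.map (𝟙 ω) ≫ eqToHom _ = _
    rw [𝒲.p.map_id, Category.id_comp, eqToHom_trans]
  · refine (cancel_epi ψ₁).1 ?_
    have hw' : w.map m.hom.fst ≫ (ψ₁ ≫ φ₁') = (ψ₁ ≫ φ₁) ≫ f.map m.hom.snd := m.hom.w
    rw [h1] at hw'
    rw [← Category.assoc, ← hw']
    exact (congrArg (· ≫ (ψ₁ ≫ φ₁')) (w.toFunctor.map_id ω)).trans (Category.id_comp _)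

theorem isMono_of_full_faithful_fpFst (hX : AlgSt.IsAlgStack Scheme.fppfPrecoverage 𝒳)
    (hY : AlgSt.IsAlgStack Scheme.fppfPrecoverage 𝒴)
    (hF : ∀ y : 𝒴.obj, ∃ R ∈ QuotSh.J Scheme.fppfPrecoverage S (𝒴.p.obj y), ∀ ⦃V : Over S⦄
      (g : V ⟶ 𝒴.p.obj y), R g → ∃ (x : 𝒲.obj) (φ : w.obj x ⟶ y), 𝒴.p.IsHomLift g φ)
    [(FibCat.fpFst w f).toFunctor.Full] [(FibCat.fpFst w f).toFunctor.Faithful] : AlgSt.IsMono f := by
  haveI := faithful_of_faithful_fpFst (isPrestack_of_isStack hX.isStack) w f hF inferInstance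
  refine repByAlgSpWith_iff.2 ⟨inferInstance, fun U y => ?_⟩
  obtain ⟨hs, hA⟩ := (repByAlgSp1_iff.1 (repByAlgSp1_of_faithful hX hY f)).2 U y
  refine ⟨hs, hA, ?_⟩
  have : ∀ T, Mono ((fibπ y f).app T) := fun T => (mono_iff_injective _).2 fun c c' e =>
    fpHom_injective_of_full_fpFst hF y hs T.unop (congrArg ULift.down e)
  haveI : Mono (fibπ y f) := NatTrans.mono_of_mono_app _
  exact (sheafToPresheaf _ _).mono_of_mono_map (inferInstanceAs (Mono (fibπ y f)))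

/-- The projection from a fibre product with a full faithful morphism is full. -/
theorem full_fpFst [f.toFunctor.Full] [f.toFunctor.Faithful] : (FibCat.fpFst w f).toFunctor.Full := by
  refine ⟨fun {m n} a => ?_⟩
  let r : f.obj m.obj.snd ⟶ f.obj n.obj.snd := m.obj.iso.inv ≫ w.map a ≫ n.obj.iso.hom
  exact ⟨fpHomMk a (f.toFunctor.preimage r) (by rw [Functor.map_preimage]; simp [r]), rfl⟩

end Groth.Agent.Boot
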