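import Groth.Agent.Boot.EtAt
import Groth.Agent.Boot.Coord
import Groth.Agent.ASp.SmST
import Groth.Agent.ASp.Quot
/-!
The etale locus of coordinates on the chart of `U ×_F U` is saturated.
-/

set_option autoImplicit false
set_option backward.isDefEq.respectTransparency false
set_option backward.isDefEq.respectTransparency.types false

universe u

open CategoryTheory CategoryTheory.Limits AlgebraicGeometry Opposite

namespace Groth.Agent.Boot

open _root_.AlgSp Groth.Agent.ASp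

variable {S : Scheme.{u}}

theorem etAt_saturated {F R : Sp S} {U : Over S} (p : (yon S).obj U ⟶ F) {fR sR : R ⟶ (yon S).obj U}
    (sqR : IsPullback fR sR p p) {R' : Over S} (c : (yon S).obj R' ⟶ R) (hce : RepWith @Etale c)
    (s t : R' ⟶ U) (hs : (yon S).map s = c ≫ fR) (ht : (yon S).map t = c ≫ sR)
    [Smooth s.left] [Smooth t.left] (W : U.left.Opens) {d : ℕ} (a : W.toScheme ⟶ AS d S)
    (ha : a ≫ AS d S ↘ S = W.ι ≫ U.hom)
    (r₁ r₂ : ↥(s.left ⁻¹ᵁ W).toScheme) (hr : (s.left ∣_ W) r₁ = (s.left ∣_ W) r₂)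
    (φ : (s.left ⁻¹ᵁ W).toScheme ⟶ pullback U.hom (AS d S ↘ S))
    (hφ₁ : φ ≫ pullback.fst _ _ = (s.left ⁻¹ᵁ W).ι ≫ t.left)
    (hφ₂ : φ ≫ pullback.snd _ _ = (s.left ∣_ W) ≫ a) (h : EtAt φ r₁) : EtAt φ r₂ := by
  let RW : Over S := Over.mk ((s.left ⁻¹ᵁ W).ι ≫ R'.hom)
  let ιW : RW ⟶ R' := Over.homMk (s.left ⁻¹ᵁ W).ι rfl
  let cW : (yon S).obj RW ⟶ R := (yon S).map ιW ≫ c
  have hcW : RepWith @Etale cW :=
    repWith_comp (repWith_yon_map (inferInstanceAs (Etale (s.left ⁻¹ᵁ W).ι))) hce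
  let sW := ιW ≫ s
  let tW := ιW ≫ t
  have hsW : (yon S).map sW = cW ≫ fR := by simp [sW, cW, hs]
  have htW : (yon S).map tW = cW ≫ sR := by simp [tW, cW, ht]
  haveI : Smooth sW.left := inferInstanceAs (Smooth ((s.left ⁻¹ᵁ W).ι ≫ s.left))
  haveI : Smooth tW.left := inferInstanceAs (Smooth ((s.left ⁻¹ᵁ W).ι ≫ t.left))
  have htp : (yon S).map tW ≫ p = (yon S).map sW ≫ p := by
    simp only [hsW, htW, cW, Category.assoc, sqR.w]
  let Z : Over S := pullback sW sW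
  let z₁ : Z ⟶ RW := pullback.fst sW sW
  let z₂ : Z ⟶ RW := pullback.snd sW sW
  have hsqZ := isPullback_left (IsPullback.of_hasPullback sW sW)
  haveI hz₁ : Smooth z₁.left := MorphismProperty.of_isPullback hsqZ.flip ‹Smooth sW.left›
  haveI hz₂ : Smooth z₂.left := MorphismProperty.of_isPullback hsqZ ‹Smooth sW.left›
  have hr' : sW.left r₁ = sW.left r₂ := by
    change ((s.left ⁻¹ᵁ W).ι ≫ s.left) r₁ = ((s.left ⁻¹ᵁ W).ι ≫ s.left) r₂
    rw [← morphismRestrict_ι, Scheme.Hom.comp_apply, hr]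
    rfl
  obtain ⟨z, hzr₁, hzr₂⟩ : ∃ z : ↥Z.left, z₁.left z = r₁ ∧ z₂.left z = r₂ := by
    obtain ⟨w, hw₁, hw₂⟩ := Scheme.Pullback.exists_preimage_pullback r₁ r₂ hr'
    refine ⟨hsqZ.isoPullback.inv w, ?_, ?_⟩
    · rw [← Scheme.Hom.comp_apply, IsPullback.isoPullback_inv_fst]; exact hw₁
    · rw [← Scheme.Hom.comp_apply, IsPullback.isoPullback_inv_snd]; exact hw₂
  let ξ₁ : Z ⟶ U := z₁ ≫ tW
  let ξ₂ : Z ⟶ U := z₂ ≫ tW
  have hξ : (yon S).map ξ₁ ≫ p = (yon S).map ξ₂ ≫ p := by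
    simp only [ξ₁, ξ₂, Functor.map_comp, Category.assoc, htp]
    rw [← Functor.map_comp_assoc, ← Functor.map_comp_assoc, pullback.condition]
  obtain ⟨P, fP, sP, sqP⟩ : ∃ (P : Sp S) (fP : P ⟶ (yon S).obj U) (sP : P ⟶ (yon S).obj Z),
      IsPullback fP sP p ((yon S).map ξ₁ ≫ p) := ⟨_, _, _, IsPullback.of_hasPullback _ _⟩
  -- for each of the two lifts: the chart of `P` and the square over affine space
  have main : ∀ (zk : Z ⟶ RW) (_ : Smooth zk.left) (_ : (yon S).map (zk ≫ tW) ≫ p = (yon S).map ξ₁ ≫ p),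
      ∃ (C : Over S) (pr : C ⟶ RW) (pz : C ⟶ Z) (ρ : (yon S).obj C ⟶ P) (σ : Z ⟶ C)
        (φk : C.left ⟶ pullback Z.hom (AS d S ↘ S)),
        RepWith @Etale ρ ∧ ρ ≫ fP = (yon S).map (pr ≫ sW) ∧ ρ ≫ sP = (yon S).map pz ∧ σ ≫ pr = zk ∧
        σ ≫ pz = 𝟙 Z ∧ φk ≫ pullback.fst _ _ = pz.left ∧
        φk ≫ pullback.snd _ _ = pr.left ≫ (s.left ∣_ W) ≫ a ∧
        ∀ x, EtAt φk x ↔ EtAt φ (pr.left x) := by
    intro zk hzk hk
    let ξ := zk ≫ tW
    haveI : Smooth ξ.left := inferInstanceAs (Smooth (zk.left ≫ tW.left))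
    obtain ⟨q, hqf, hqs⟩ : ∃ q : P ⟶ R, q ≫ fR = fP ∧ q ≫ sR = sP ≫ (yon S).map ξ :=
      ⟨sqR.lift fP (sP ≫ (yon S).map ξ) (by rw [sqP.w, Category.assoc, hk]), sqR.lift_fst _ _ _,
        sqR.lift_snd _ _ _⟩
    have sqq : IsPullback q sP sR ((yon S).map ξ) := by
      refine IsPullback.of_right ?_ hqs sqR
      rw [hqf, hk]
      exact sqP
    let C : Over S := pullback tW ξ
    let pr : C ⟶ RW := pullback.fst tW ξ
    let pz : C ⟶ Z := pullback.snd tW ξ
    have hyC := isPullback_yon_map (IsPullback.of_hasPullback tW ξ)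
    obtain ⟨ρ, hρf, hρs⟩ : ∃ ρ : (yon S).obj C ⟶ P,
        ρ ≫ fP = (yon S).map (pr ≫ sW) ∧ ρ ≫ sP = (yon S).map pz :=
      ⟨sqP.lift _ _ (by
        rw [← hk, Functor.map_comp, Category.assoc, ← htp, ← Functor.map_comp_assoc, ← Functor.map_comp_assoc,
          pullback.condition]), sqP.lift_fst _ _ _, sqP.lift_snd _ _ _⟩
    have sqC : IsPullback ((yon S).map pr) ρ cW q := by
      refine IsPullback.of_bot (h₃₁ := (yon S).map ξ) (v₂₁ := sP) (v₂₂ := sR) ?_ ?_ sqq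
      · rw [hρs, ← htW]
        exact hyC
      · refine sqR.hom_ext ?_ ?_
        · simp only [Category.assoc, hqf, hρf, cW]
          rw [Functor.map_comp, hsW]
          simp only [cW, Category.assoc]
        · have e : (yon S).map pr ≫ (yon S).map tW = (yon S).map pz ≫ (yon S).map ξ := by
            rw [← Functor.map_comp, ← Functor.map_comp, pullback.condition]
          simp only [Category.assoc, hqs, reassoc_of% hρs, ← e, htW]
    let σ : Z ⟶ C := pullback.lift zk (𝟙 Z) (by simp [ξ])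
    let hm : pullback Z.hom (AS d S ↘ S) ⟶ pullback U.hom (AS d S ↘ S) :=
      pullback.map _ _ _ _ ξ.left (𝟙 _) (𝟙 S) (by simp) (by simp)
    have sqh : IsPullback hm (pullback.fst _ _) (pullback.fst _ _) ξ.left := by
      refine IsPullback.of_right ?_ (by simp [hm, pullback.map]) (IsPullback.of_hasPullback U.hom (AS d S ↘ S)).flip
      rw [show hm ≫ pullback.snd _ _ = pullback.snd _ _ by simp [hm, pullback.map],
        Over.w ξ]
      exact (IsPullback.of_hasPullback Z.hom (AS d S ↘ S)).flip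
    haveI : Smooth hm := MorphismProperty.of_isPullback sqh.flip ‹Smooth ξ.left›
    let φk : C.left ⟶ pullback Z.hom (AS d S ↘ S) := pullback.lift pz.left (pr.left ≫ (s.left ∣_ W) ≫ a) (by
      rw [Category.assoc, Category.assoc, ha, morphismRestrict_ι_assoc, Over.w s, Over.w pz]
      exact (Over.w pr).symm)
    have sqφ : IsPullback pr.left φk φ hm := by
      refine IsPullback.of_bot (h₃₁ := ξ.left) (v₂₁ := pullback.fst _ _) (v₂₂ := pullback.fst _ _) ?_ ?_ sqh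
      · rw [hφ₁, show φk ≫ pullback.fst _ _ = pz.left from pullback.lift_fst _ _ _]
        exact isPullback_left (IsPullback.of_hasPullback tW ξ)
      · apply pullback.hom_ext
        · rw [Category.assoc, hφ₁, Category.assoc, sqh.w, pullback.lift_fst_assoc]
          exact congrArg (fun k => k.left) (pullback.condition (f := tW) (g := ξ))
        · rw [Category.assoc, hφ₂, Category.assoc,
            show hm ≫ pullback.snd _ _ = pullback.snd _ _ by simp [hm, pullback.map], pullback.lift_snd]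
    exact ⟨C, pr, pz, ρ, σ, φk, repWith_of_isPullback sqC hcW, hρf, hρs, pullback.lift_fst _ _ _,
      pullback.lift_snd _ _ _, pullback.lift_fst _ _ _, pullback.lift_snd _ _ _,
      fun x => etAt_iff_of_isPullback sqφ x⟩
  obtain ⟨C₁, pr₁, pz₁, ρ₁, σ₁, φ₁, hρ₁, hρ₁f, hρ₁s, hσ₁r, hσ₁z, h₁f, h₁s, hiff₁⟩ := main z₁ hz₁ rfl
  obtain ⟨C₂, pr₂, pz₂, ρ₂, σ₂, φ₂, hρ₂, hρ₂f, hρ₂s, hσ₂r, hσ₂z, h₂f, h₂s, hiff₂⟩ := main z₂ hz₂ hξ.symm
  obtain ⟨C, e₁, e₂, hC⟩ := exists_isPullback_yon hρ₁.1 ρ₂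
  haveI : Etale e₂.left := hρ₁.2 _ _ _ hC
  haveI : Etale e₁.left := hρ₂.2 _ _ _ hC.flip
  obtain ⟨l, hl⟩ := (yon S).map_surjective (hC.lift ((yon S).map σ₁) ((yon S).map σ₂) (by
    refine sqP.hom_ext ?_ ?_
    · rw [Category.assoc, Category.assoc, hρ₁f, hρ₂f, ← Functor.map_comp, ← Functor.map_comp,
        reassoc_of% hσ₁r, reassoc_of% hσ₂r, pullback.condition]
    · rw [Category.assoc, Category.assoc, hρ₁s, hρ₂s, ← Functor.map_comp, ← Functor.map_comp, hσ₁z, hσ₂z]))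
  have hl₁ : l ≫ e₁ = σ₁ := (yon S).map_injective (by rw [Functor.map_comp, hl, hC.lift_fst])
  have hl₂ : l ≫ e₂ = σ₂ := (yon S).map_injective (by rw [Functor.map_comp, hl, hC.lift_snd])
  have hew := hC.w
  have hef : e₁ ≫ pr₁ ≫ sW = e₂ ≫ pr₂ ≫ sW := (yon S).map_injective (by
    have := congrArg (· ≫ fP) hew
    simpa only [Category.assoc, hρ₁f, hρ₂f, ← Functor.map_comp] using this)
  have hes : e₁ ≫ pz₁ = e₂ ≫ pz₂ := (yon S).map_injective (by
    have := congrArg (· ≫ sP) hew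
    simpa only [Category.assoc, hρ₁s, hρ₂s, ← Functor.map_comp] using this)
  have heφ : e₁.left ≫ φ₁ = e₂.left ≫ φ₂ := by
    apply pullback.hom_ext
    · rw [Category.assoc, Category.assoc, h₁f, h₂f, ← Over.comp_left, hes, Over.comp_left]
    · rw [Category.assoc, Category.assoc, h₁s, h₂s]
      have : e₁.left ≫ pr₁.left ≫ (s.left ∣_ W) = e₂.left ≫ pr₂.left ≫ (s.left ∣_ W) := by
        rw [← cancel_mono W.ι]
        simp only [Category.assoc, morphismRestrict_ι]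
        exact congrArg (fun k => k.left) hef
      simpa only [Category.assoc] using congrArg (· ≫ a) this
  have hp₁ : pr₁.left (σ₁.left z) = r₁ := by
    rw [← hzr₁, ← Scheme.Hom.comp_apply, ← Over.comp_left, hσ₁r]
  have hp₂ : pr₂.left (σ₂.left z) = r₂ := by
    rw [← hzr₂, ← Scheme.Hom.comp_apply, ← Over.comp_left, hσ₂r]
  have h1 : EtAt φ₁ (e₁.left (l.left z)) := by
    rw [← Scheme.Hom.comp_apply, ← Over.comp_left, hl₁, hiff₁, hp₁]
    exact h
  rw [← etAt_comp_iff, heφ, etAt_comp_iff, ← Scheme.Hom.comp_apply, ← Over.comp_left, hl₂, hiff₂, hp₂] at h1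
  exact h1

end Groth.Agent.Boot
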