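import Groth.Agent.Boot.Main
import Groth.Agent.ASt.SubCover
import Groth.Agent.ASt.StackSetoid
import Groth.Agent.ASt.StQc
import Groth.Agent.ASt.Chart
import Groth.Agent.ASt.Calc
import Groth.Agent.ASt.StkAlg
/-!
Algebraic stacks without nontrivial automorphisms are algebraic spaces.
-/

set_option autoImplicit false
set_option backward.isDefEq.respectTransparency false
set_option backward.isDefEq.respectTransparency.types false

universe u

open CategoryTheory CategoryTheory.Limits AlgebraicGeometry Opposite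

namespace Groth.Agent.Boot

open _root_.AlgSp Groth.Agent.ASp Groth.Agent.ASt

variable {S : Scheme.{u}} {𝒳 : AlgSt.Cat S}

theorem faithful_of_isFibSetoid (h : FibCat.IsFibSetoid 𝒳.p) : 𝒳.p.Faithful := by
  haveI := h.1
  refine ⟨fun {x y} a b e => ?_⟩
  have hv := facMap_comp a b (𝟙 _) (by rw [Category.id_comp]; exact e)
  have h1 := eq_of_isFibSetoid h (facMap a b (𝟙 _) (by rw [Category.id_comp]; exact e)) (𝟙 x) (e := rfl)
    (map_facMap _ _ _ _) (𝒳.p.map_id x)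
  rw [h1, Category.id_comp] at hv
  exact hv

theorem repByAlgSp_of_faithful (h𝒳 : AlgSt.IsAlgStack Scheme.fppfPrecoverage 𝒳) [𝒳.p.Faithful] :
    AlgSt.RepByAlgSp 𝒳 := by
  haveI := h𝒳.isStack.1
  have hsF : Presheaf.IsSheaf (J S) (Cl 𝒳) := (isSheaf_iff_isSheaf_of_type _ _).2
    (isStack_ofPsh_iff.1 (isStack_of_isEquivOver (isEquivOver_toPsh (𝒳 := 𝒳)) h𝒳.isStack))
  refine repByAlgSp_iff.2 ⟨inferInstance, hsF, ?_⟩
  obtain ⟨W, a, ha, has⟩ := h𝒳.atlas
  haveI := faithful_of_faithful_source a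
  have hsW := (repByAlgSp_iff.1 (repByAlgSp_overCat W)).2
  obtain ⟨hsW, -⟩ := hsW
  let F : Sp S := ⟨Cl 𝒳, hsF⟩
  let α : Cl (FibCat.overCat W) ⟶ (pyon S).obj W :=
    { app := fun T => ↾(fun c => ⟨overHom c⟩)
      naturality := fun A B k => by ext c; exact congrArg ULift.up (overHom_clMap k.unop c) }
  haveI : ∀ T, IsIso (α.app T) := fun T => (isIso_iff_bijective _).2
    ⟨fun a b e => (bijective_overHom T.unop).1 (congrArg ULift.down e),
      fun ⟨k⟩ => by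
        obtain ⟨c, hc⟩ := (bijective_overHom T.unop).2 k
        exact ⟨c, congrArg ULift.up hc⟩⟩
  haveI : IsIso α := NatIso.isIso_of_isIso_app _
  let F₁ : Sp S := ⟨Cl (FibCat.overCat W), hsW⟩
  let j : (yon S).obj W ⟶ F₁ := ObjectProperty.homMk (inv α)
  haveI : IsIso j := by
    have : IsIso ((sheafToPresheaf _ _).map j) := inferInstanceAs (IsIso (inv α))
    exact isIso_of_reflects_iso j (sheafToPresheaf _ _)
  let f : F₁ ⟶ F := ObjectProperty.homMk (clFun a)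
  have key := (repBySpWith_clFun_iff (LocP @Smooth) a).2 ha
  have key' := (repBySpWith_clFun_iff IsSurjectiveMor a).2 has
  refine isAlgSpace_of_smoothChart (p := j ≫ f) fun T g P fst snd sq => ?_
  have sq' : IsPullback (fst ≫ j) snd f g := by
    refine IsPullback.of_iso sq (Iso.refl _) (asIso j) (Iso.refl _) (Iso.refl _) ?_ ?_ ?_ ?_ <;> simp
  obtain ⟨hs, hA, hP⟩ := key g.hom (fst ≫ j).hom snd.hom (sq'.map (sheafToPresheaf (J S) (Type (u + 1))))
  obtain ⟨hs', hA', hP''⟩ := key' g.hom (fst ≫ j).hom snd.hom (sq'.map (sheafToPresheaf (J S) (Type (u + 1))))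
  exact ⟨hA, hP, hP''⟩

theorem repByAlgSp_iff_isFibSetoid (h𝒳 : AlgSt.IsAlgStack Scheme.fppfPrecoverage 𝒳) :
    FibCat.IsFibSetoid 𝒳.p ↔ AlgSt.RepByAlgSp 𝒳 := by
  haveI := h𝒳.isStack.1
  refine ⟨fun h => ?_, fun h => ?_⟩
  · haveI := faithful_of_isFibSetoid h
    exact repByAlgSp_of_faithful h𝒳
  · haveI := faithful_of_repByAlgSp h
    exact isFibSetoid_mk inferInstance fun {_ _} a b {_} ha hb => 𝒳.p.map_injective (ha.trans hb.symm)

variable {𝒴 : AlgSt.Cat S}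

theorem repByAlgSp1_of_faithful (hX : AlgSt.IsAlgStack Scheme.fppfPrecoverage 𝒳)
    (hY : AlgSt.IsAlgStack Scheme.fppfPrecoverage 𝒴) (f : 𝒳 ⥤ᵇ 𝒴) [f.toFunctor.Faithful] :
    AlgSt.RepByAlgSp1 f := fun U y => by
  haveI := hX.isStack.1
  haveI := hY.isStack.1
  haveI : (FibCat.fpFst y f).toFunctor.Faithful := faithful_fpFst
  haveI : (FibCat.fp y f).p.Faithful := ⟨fun {m n a b} h =>
    (FibCat.fpFst y f).toFunctor.map_injective ((FibCat.overCat U).p.map_injective h)⟩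
  exact repByAlgSp_of_faithful
    (isAlgStack_fp (isPrestack_of_isStack hY.isStack) hY.diag (isAlgStack_overCat U) hX y f)

theorem repByAlgSp1_iff_faithful (hX : AlgSt.IsAlgStack Scheme.fppfPrecoverage 𝒳)
    (hY : AlgSt.IsAlgStack Scheme.fppfPrecoverage 𝒴) (f : 𝒳 ⥤ᵇ 𝒴) :
    AlgSt.RepByAlgSp1 f ↔ f.toFunctor.Faithful := by
  haveI := hX.isStack.1
  haveI := hY.isStack.1
  exact ⟨fun h => faithful_of_repByAlgSp1 h, fun h => repByAlgSp1_of_faithful hX hY f⟩

theorem isEquivOver_inertiaToBase_iff (hX : FibCat.IsFibGrpd 𝒳.p) (hY : FibCat.IsFibGrpd 𝒴.p)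
    (f : 𝒳 ⥤ᵇ 𝒴) : FibCat.IsEquivOver (FibCat.inertiaToBase f) ↔ f.toFunctor.Faithful := by
  haveI := hX
  haveI := hY
  refine ⟨fun h => ?_, fun h => ?_⟩
  · haveI := (vert_of_isEquivOver h).1
    refine ⟨fun {x y} a b e => ?_⟩
    have hp : 𝒳.p.map a = 𝒳.p.map b := map_inj_w f e
    let v := facMap a b (𝟙 _) (by rw [Category.id_comp]; exact hp)
    have hv : v ≫ a = b := facMap_comp _ _ _ _
    have hpv : 𝒳.p.map v = 𝟙 _ := map_facMap _ _ _ _
    haveI : IsIso (𝒳.p.map v) := by rw [hpv]; infer_instance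
    haveI : IsIso v := isIso_of_isIso_map v
    have hfv : f.map v = 𝟙 _ := hom_ext (f.map a) (by rw [map_w, hpv]; simp)
      (by rw [← f.toFunctor.map_comp, hv, Category.id_comp]; exact e.symm)
    let o₁ : (FibCat.inertia f).obj := ⟨x, asIso v, hfv⟩
    let o₂ : (FibCat.inertia f).obj := ⟨x, Iso.refl x, f.map_id x⟩
    let k : (FibCat.inertiaToBase f).obj o₁ ⟶ (FibCat.inertiaToBase f).obj o₂ := 𝟙 x
    let m : o₁ ⟶ o₂ := (FibCat.inertiaToBase f).toFunctor.preimage k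
    have hm : m.hom = 𝟙 x := (FibCat.inertiaToBase f).toFunctor.map_preimage k
    have hc := m.comm
    rw [hm] at hc
    have hv1 : v = 𝟙 x := by simpa [o₁, o₂] using hc
    rw [← hv, hv1, Category.id_comp]
  · have haut : ∀ o : (FibCat.inertia f).obj, o.aut.hom = 𝟙 o.pt := fun o =>
      f.toFunctor.map_injective (o.map_aut.trans (f.map_id _).symm)
    haveI : (FibCat.inertiaToBase f).toFunctor.Faithful := ⟨fun h => FibCat.InertiaObj.hom_ext h⟩
    haveI : (FibCat.inertiaToBase f).toFunctor.Full := ⟨fun {o o'} k => ⟨⟨k, by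
      rw [haut, haut, Category.id_comp]; exact (Category.comp_id k).symm⟩, rfl⟩⟩
    exact isEquivOver_of_vert _ fun y => ⟨⟨y, Iso.refl y, f.map_id y⟩, rfl, Iso.refl y,
      (𝒳.p.map_id y).trans (eqToHom_refl _ rfl).symm⟩

theorem repByAlgSp1_iff_isEquivOver_inertiaToBase (hX : AlgSt.IsAlgStack Scheme.fppfPrecoverage 𝒳)
    (hY : AlgSt.IsAlgStack Scheme.fppfPrecoverage 𝒴) (f : 𝒳 ⥤ᵇ 𝒴) :
    AlgSt.RepByAlgSp1 f ↔ FibCat.IsEquivOver (FibCat.inertiaToBase f) := by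
  rw [repByAlgSp1_iff_faithful hX hY, isEquivOver_inertiaToBase_iff hX.isStack.1 hY.isStack.1]

theorem isEquivOver_inertiaToBase_toSelf_iff (hX : AlgSt.IsAlgStack Scheme.fppfPrecoverage 𝒳) :
    FibCat.IsEquivOver (FibCat.inertiaToBase (FibCat.toSelf 𝒳)) ↔ AlgSt.RepByAlgSp 𝒳 := by
  haveI := hX.isStack.1
  haveI := isFibGrpd_of_repByAlgSp (repByAlgSp_selfOver (S := S))
  rw [isEquivOver_inertiaToBase_iff hX.isStack.1 inferInstance]
  refine ⟨fun h => ?_, fun h => ?_⟩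
  · haveI : 𝒳.p.Faithful := ⟨fun e => h.map_injective e⟩
    exact repByAlgSp_of_faithful hX
  · haveI := faithful_of_repByAlgSp h
    exact ⟨fun e => 𝒳.p.map_injective e⟩

theorem fpHom_injective_of_full [FibCat.IsFibGrpd 𝒳.p] [FibCat.IsFibGrpd 𝒴.p] {f : 𝒳 ⥤ᵇ 𝒴}
    [f.toFunctor.Full] [f.toFunctor.Faithful] {U : Over S} (y : FibCat.overCat U ⥤ᵇ 𝒴) (T : Over S) :
    Function.Injective (fpHom : ClType (FibCat.fp y f) T → (T ⟶ U)) := by
  intro c c' e
  obtain ⟨k, x, hx, φ, hφ, rfl⟩ := fpEl_exists c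
  obtain ⟨k', x', hx', φ', hφ', rfl⟩ := fpEl_exists c'
  obtain rfl : k = k' := (fpHom_fpEl _ _ _ _ _).symm.trans (e.trans (fpHom_fpEl _ _ _ _ _))
  have hi : IsIso φ := isIso_of_vert φ hφ
  refine fpEl_eq_iff.2 ⟨f.toFunctor.preimage (inv φ ≫ φ'), ?_, ?_⟩
  · have h1 := map_w f (f.toFunctor.preimage (inv φ ≫ φ'))
    rw [Functor.map_preimage, Functor.map_comp, Functor.map_inv] at h1
    simp [hφ, hφ'] at h1
    have h2 := congrArg (fun r => eqToHom (f.w_obj x).symm ≫ r ≫ eqToHom (f.w_obj x')) h1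
    simpa using h2.symm
  · rw [Functor.map_preimage, IsIso.hom_inv_id_assoc]

theorem isMono_of_full_faithful (hX : AlgSt.IsAlgStack Scheme.fppfPrecoverage 𝒳)
    (hY : AlgSt.IsAlgStack Scheme.fppfPrecoverage 𝒴) (f : 𝒳 ⥤ᵇ 𝒴) [f.toFunctor.Full] [f.toFunctor.Faithful] :
    AlgSt.IsMono f := by
  haveI := hX.isStack.1
  haveI := hY.isStack.1
  refine repByAlgSpWith_iff.2 ⟨inferInstance, fun U y => ?_⟩
  obtain ⟨hs, hA⟩ := (repByAlgSp1_iff.1 (repByAlgSp1_of_faithful hX hY f)).2 U y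
  refine ⟨hs, hA, ?_⟩
  have : ∀ T, Mono ((fibπ y f).app T) := fun T => (mono_iff_injective _).2 fun c c' e =>
    fpHom_injective_of_full y T.unop (congrArg ULift.down e)
  haveI : Mono (fibπ y f) := NatTrans.mono_of_mono_app _
  exact (sheafToPresheaf _ _).mono_of_mono_map (inferInstanceAs (Mono (fibπ y f)))

end Groth.Agent.Boot
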